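import Mathlib

/-!
Double counting of fixed and swapped pairs over an invariant set of involutions of a doubly
transitive action.
-/

set_option autoImplicit false
set_option linter.style.haveILetI false
set_option linter.unusedSectionVars false

namespace H25.Eleven

universe u v

open Finset

variable {G : Type u} {Ω : Type v} [Group G] [MulAction G Ω] [Finite G] [Finite Ω]

/-- Elements of `C` fixing two given points. -/
def fixers (C : Set G) (a b : Ω) : Set G := {g | g ∈ C ∧ g • a = a ∧ g • b = b}

/-- Elements of `C` swapping two given points. -/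
def swappers (C : Set G) (a b : Ω) : Set G := {g | g ∈ C ∧ g • a = b ∧ g • b = a}

theorem card_fixers_le {C : Set G} (hC : ∀ h g : G, g ∈ C → h * g * h⁻¹ ∈ C) (a b : Ω) (h : G) :
    Nat.card (fixers C a b) ≤ Nat.card (fixers C (h • a) (h • b)) := by
  refine Nat.card_le_card_of_injective (fun g => ⟨h * g.1 * h⁻¹, hC h _ g.2.1, ?_, ?_⟩) ?_
  · rw [mul_smul, mul_smul, inv_smul_smul, g.2.2.1]
  · rw [mul_smul, mul_smul, inv_smul_smul, g.2.2.2]
  · rintro ⟨g, _⟩ ⟨g', _⟩ e
    simpa using congrArg Subtype.val e

theorem card_swappers_le {C : Set G} (hC : ∀ h g : G, g ∈ C → h * g * h⁻¹ ∈ C) (a b : Ω) (h : G) :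
    Nat.card (swappers C a b) ≤ Nat.card (swappers C (h • a) (h • b)) := by
  refine Nat.card_le_card_of_injective (fun g => ⟨h * g.1 * h⁻¹, hC h _ g.2.1, ?_, ?_⟩) ?_
  · rw [mul_smul, mul_smul, inv_smul_smul, g.2.2.1]
  · rw [mul_smul, mul_smul, inv_smul_smul, g.2.2.2]
  · rintro ⟨g, _⟩ ⟨g', _⟩ e
    simpa using congrArg Subtype.val e

variable (h2 : ∀ a b c d : Ω, a ≠ b → c ≠ d → ∃ g : G, g • a = c ∧ g • b = d)
include h2

theorem card_fixers_eq {C : Set G} (hC : ∀ h g : G, g ∈ C → h * g * h⁻¹ ∈ C) {a b c d : Ω}
    (hab : a ≠ b) (hcd : c ≠ d) : Nat.card (fixers C a b) = Nat.card (fixers C c d) := by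
  obtain ⟨g, rfl, rfl⟩ := h2 a b c d hab hcd
  refine le_antisymm (card_fixers_le hC a b g) ?_
  have := card_fixers_le hC (g • a) (g • b) g⁻¹
  rwa [inv_smul_smul, inv_smul_smul] at this

theorem card_swappers_eq {C : Set G} (hC : ∀ h g : G, g ∈ C → h * g * h⁻¹ ∈ C) {a b c d : Ω}
    (hab : a ≠ b) (hcd : c ≠ d) : Nat.card (swappers C a b) = Nat.card (swappers C c d) := by
  obtain ⟨g, rfl, rfl⟩ := h2 a b c d hab hcd
  refine le_antisymm (card_swappers_le hC a b g) ?_
  have := card_swappers_le hC (g • a) (g • b) g⁻¹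
  rwa [inv_smul_smul, inv_smul_smul] at this

/-- The two counting equations for an invariant set of involutions with constant fixed-point
number `f`. -/
theorem count_eqs {C : Set G} (hC : ∀ h g : G, g ∈ C → h * g * h⁻¹ ∈ C)
    (hinv : ∀ g ∈ C, g * g = 1) {f : ℕ} (hf : ∀ g ∈ C, Nat.card {c : Ω // g • c = c} = f)
    {a b : Ω} (hab : a ≠ b) :
    Nat.card C * (f * (f - 1)) =
        Nat.card Ω * (Nat.card Ω - 1) * Nat.card (fixers C a b) ∧
      Nat.card C * (Nat.card Ω - f) =
        Nat.card Ω * (Nat.card Ω - 1) * Nat.card (swappers C a b) := by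
  classical
  haveI := Fintype.ofFinite G
  haveI := Fintype.ofFinite Ω
  set CF : Finset G := univ.filter fun g => g ∈ C with hCF
  set PS : Finset (Ω × Ω) := (univ : Finset Ω).offDiag with hPS
  have hCcard : Nat.card C = CF.card := by
    rw [Nat.card_eq_fintype_card, Fintype.card_subtype]
  have hPcard : PS.card = Nat.card Ω * (Nat.card Ω - 1) := by
    rw [hPS, offDiag_card, card_univ, Nat.card_eq_fintype_card, Nat.mul_sub_one]
  have hfix : ∀ g ∈ C, (univ.filter fun c : Ω => g • c = c).card = f := by
    intro g hg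
    rw [← hf g hg, Nat.card_eq_fintype_card, Fintype.card_subtype]
  constructor
  · have key := sum_card_bipartiteAbove_eq_sum_card_bipartiteBelow
      (s := CF) (t := PS) (fun g p => g • p.1 = p.1 ∧ g • p.2 = p.2)
    rw [sum_const_nat (m := f * (f - 1)), sum_const_nat (m := Nat.card (fixers C a b))] at key
    · rw [hCcard, key, hPcard]
    · intro p hp
      rw [hPS, mem_offDiag] at hp
      rw [card_fixers_eq h2 hC hab hp.2.2, Nat.card_eq_fintype_card, Fintype.card_subtype]
      apply congrArg Finset.card
      ext g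
      simp [bipartiteBelow, hCF, fixers]
      tauto
    · intro g hg
      rw [hCF, mem_filter] at hg
      rw [← hfix g hg.2, Nat.mul_sub_one, ← offDiag_card]
      apply congrArg Finset.card
      ext p
      simp [bipartiteAbove, hPS]
      tauto
  · have key := sum_card_bipartiteAbove_eq_sum_card_bipartiteBelow
      (s := CF) (t := PS) (fun g p => g • p.1 = p.2 ∧ g • p.2 = p.1)
    rw [sum_const_nat (m := Nat.card Ω - f), sum_const_nat (m := Nat.card (swappers C a b))] at key
    · rw [hCcard, key, hPcard]
    · intro p hp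
      rw [hPS, mem_offDiag] at hp
      rw [card_swappers_eq h2 hC hab hp.2.2, Nat.card_eq_fintype_card, Fintype.card_subtype]
      apply congrArg Finset.card
      ext g
      simp [bipartiteBelow, hCF, swappers]
      tauto
    · intro g hg
      rw [hCF, mem_filter] at hg
      have hgg : ∀ c : Ω, g • g • c = c := fun c => by rw [← mul_smul, hinv g hg.2, one_smul]
      have hm : (univ.filter fun c : Ω => g • c = c).card +
          (univ.filter fun c : Ω => ¬ g • c = c).card = Nat.card Ω := by
        rw [card_filter_add_card_filter_not, card_univ, Nat.card_eq_fintype_card]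
      have himg : PS.bipartiteAbove (fun g p => g • p.1 = p.2 ∧ g • p.2 = p.1) g =
          (univ.filter fun c : Ω => ¬ g • c = c).image fun c => (c, g • c) := by
        ext p
        obtain ⟨p, q⟩ := p
        simp only [bipartiteAbove, hPS, mem_filter, mem_offDiag, mem_univ, true_and, mem_image,
          Prod.mk.injEq]
        constructor
        · rintro ⟨hne, h1, -⟩
          exact ⟨p, fun e => hne (e.symm.trans h1), rfl, h1⟩
        · rintro ⟨c, hc, rfl, rfl⟩
          exact ⟨fun e => hc e.symm, rfl, hgg c⟩
      rw [himg, card_image_of_injective _ (fun c c' e => (Prod.ext_iff.1 e).1)]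
      rw [hfix g hg.2] at hm
      omega

end H25.Eleven
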