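import Cfsg.Agent.H25.Eleven.Sixtyone
import Cfsg.Agent.H63.Eleven.CountOdd

/-!
Case A of S3403, two-point centralisers of even order: the good class of involutions.
-/

set_option autoImplicit false
set_option linter.style.haveILetI false
set_option linter.unusedSectionVars false

namespace H25.Eleven

open H63.Eleven MulAction

universe u v

variable {G : Type u} {Ω : Type v} [Group G] [Finite G] [MulAction G Ω] (A : ACore G Ω)

theorem exists_good_even (hv : Even A.v) : A.v ∣ 12 ∧ ∃ _T : A.Good, True := by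
  classical
  haveI := finite_points A
  haveI : Fact (Nat.Prime 2) := ⟨Nat.prime_two⟩
  have hu1 := A.one_lt_u
  have hn := A.card_points
  haveI : Nontrivial Ω := Finite.one_lt_card_iff_nontrivial.1 (by omega)
  obtain ⟨a, b, hab⟩ := exists_pair_ne Ω
  obtain ⟨y, hy5, hya, hyb, -, hVy, -, -, w, hww, hwa, hwb, hwy, hwL, hVw, hform, -⟩ :=
    A.exists_y a b hab
  set V : Subgroup G := A.W a ⊓ stabilizer G b with hV
  have hy5' : y ^ 5 = 1 := hy5 ▸ pow_orderOf_eq_one y
  have hwi : w⁻¹ = w := inv_eq_of_mul_eq_one_left hww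
  have hwy' : ∀ j : ℕ, w * y ^ j * w⁻¹ = (y ^ j)⁻¹ := by
    intro j
    rw [← conj_pow, hwy, inv_pow]
  have hyab : ∀ i : ℕ, y ^ i • a = a ∧ y ^ i • b = b := fun i =>
    ⟨mem_stabilizer_iff.1 ((stabilizer G a).pow_mem (mem_stabilizer_iff.2 hya) i),
      mem_stabilizer_iff.1 ((stabilizer G b).pow_mem (mem_stabilizer_iff.2 hyb) i)⟩
  have hswap' : ∀ (i : ℕ) (x : G), x ∈ A.W a → x • b = b →
      (w * y ^ i * x) • a = b ∧ (w * y ^ i * x) • b = a :=
    fun i x hx hxb => ⟨by rw [mul_smul, mul_smul, fix_left A hx, (hyab i).1, hwa],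
      by rw [mul_smul, mul_smul, hxb, (hyab i).2, hwb]⟩
  have hconj' : ∀ (i : ℕ) (x : G), x ∈ A.W a → x • b = b →
      ∃ h : G, w * y ^ i * x = h * (w * x) * h⁻¹ := by
    intro i x hx hxb
    refine ⟨y ^ (2 * i), ?_⟩
    have hc : Commute x ((y ^ (2 * i))⁻¹) :=
      ((show Commute x y from hVy x hx hxb).pow_right (2 * i)).inv_right
    have h1 : y ^ (2 * i) * w = w * (y ^ (2 * i))⁻¹ := by
      have h := hwy' (2 * i)
      rw [hwi] at h
      calc y ^ (2 * i) * w = w * (w * y ^ (2 * i) * w) := by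
            rw [← mul_assoc, ← mul_assoc, hww, one_mul]
        _ = w * (y ^ (2 * i))⁻¹ := by rw [h]
    have h2 : (y ^ (2 * i))⁻¹ * (y ^ (2 * i))⁻¹ = y ^ i := by
      rw [← mul_inv_rev, ← pow_add, inv_eq_iff_mul_eq_one, ← pow_add,
        show 2 * i + 2 * i + i = 5 * i by ring, pow_mul, hy5', one_pow]
    calc w * y ^ i * x = w * ((y ^ (2 * i))⁻¹ * (y ^ (2 * i))⁻¹) * x := by rw [h2]
      _ = w * (y ^ (2 * i))⁻¹ * (x * (y ^ (2 * i))⁻¹) := by
          rw [hc.eq]
          simp only [mul_assoc]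
      _ = y ^ (2 * i) * (w * x) * (y ^ (2 * i))⁻¹ := by
          rw [← h1]
          simp only [mul_assoc]
  have hI_iff' : ∀ (i : ℕ) (x : G), x ∈ A.W a → x • b = b →
      (w * y ^ i * x ∈ lineInvols A ↔ w * x ∈ lineInvols A) := by
    intro i x hx hxb
    obtain ⟨h, hh⟩ := hconj' i x hx hxb
    constructor
    · intro hm
      have := lineInvols_conj A h⁻¹ _ hm
      rw [hh] at this
      simpa [mul_assoc] using this
    · intro hm
      rw [hh]
      exact lineInvols_conj A h _ hm
  -- shape of an involution swapping `a`, `b` without fixed point on the line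
  have hshape' : ∀ g : G, g * g = 1 → g • a = b → g • b = a → (∀ c ∈ A.line a b, g • c ≠ c) →
      ∃ (i : ℕ) (x : G), i < 5 ∧ x ∈ A.W a ∧ x • b = b ∧ x * x = 1 ∧ g = w * y ^ i * x := by
    intro g hgg hga hgb hgL
    obtain ⟨i, x, hx, hxb, rfl⟩ := hform g hgg hga hgb hgL
    refine ⟨i % 5, x, Nat.mod_lt _ (by norm_num), hx, hxb, ?_, by rw [← hy5, pow_mod_orderOf]⟩
    have hc : x * (w * y ^ i) = w * y ^ i * x := by
      rw [← mul_assoc, hVw x hx hxb, mul_assoc, ((show Commute x y from hVy x hx hxb).pow_right i).eq,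
        ← mul_assoc]
    have hsq : (w * y ^ i) * (w * y ^ i) = 1 := by
      have h := hwy' i
      rw [hwi] at h
      rw [← mul_assoc, h, inv_mul_cancel]
    calc x * x = (w * y ^ i) * (w * y ^ i) * (x * x) := by rw [hsq, one_mul]
      _ = (w * y ^ i) * (x * (w * y ^ i)) * x := by rw [hc]; simp only [mul_assoc]
      _ = w * y ^ i * x * (w * y ^ i * x) := by simp only [mul_assoc]
      _ = 1 := hgg
  -- line involutions swapping `a` and `b` fix no point of the line
  have hIfpf : ∀ g ∈ lineInvols A, g • a = b → g • b = a → ∀ c ∈ A.line a b, g • c ≠ c := by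
    intro g hg hga hgb c hc hgc
    have hline : ∀ p ∈ A.line a b, g • p ∈ A.line a b := by
      intro p hp
      have h1 : g • p ∈ A.line (g • a) (g • b) := by
        rw [A.line_smul g a b hab]
        exact Set.mem_image_of_mem _ hp
      rwa [hga, hgb, A.line_eq a b b a hab (A.line_right a b hab) (A.line_left a b hab) hab.symm] at h1
    obtain ⟨hgg, hg1⟩ := orderOf_two hg.1
    let S : SubMulAction ↥(Subgroup.zpowers g) Ω :=
      { carrier := A.line a b
        smul_mem' := fun x p hp => by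
          obtain ⟨x, k, rfl⟩ := x
          show g ^ k • p ∈ A.line a b
          rcases Int.even_or_odd' k with ⟨m, rfl | rfl⟩
          · rw [zpow_mul, show g ^ (2 : ℤ) = 1 by rw [zpow_two, hgg], one_zpow, one_smul]
            exact hp
          · rw [zpow_add, zpow_mul, show g ^ (2 : ℤ) = 1 by rw [zpow_two, hgg], one_zpow,
              one_mul, zpow_one]
            exact hline p hp }
    let t : ↥(Subgroup.zpowers g) := ⟨g, Subgroup.mem_zpowers g⟩
    have hS : Even (Nat.card ↥S) := by
      show Even (Nat.card ↥(A.line a b))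
      rw [A.line_card a b hab]
      decide
    obtain ⟨d, hdc, hgd⟩ := exists_second_fixed (G := ↥(Subgroup.zpowers g)) (Ω := ↥S) hS (t := t)
      (Subtype.ext hgg) (c := ⟨c, hc⟩) (Subtype.ext hgc)
    have hgd' : g • (d : Ω) = d := congrArg Subtype.val hgd
    have hcd : c ≠ (d : Ω) := fun h => hdc (Subtype.ext h.symm)
    obtain ⟨-, p, q, -, hgW, -⟩ := hg
    have hal : a ∈ A.line c d := by
      rw [A.line_eq a b c d hab hc d.2 hcd]
      exact A.line_left a b hab
    have := (A.V_fix c d g hcd (mem_W_of_fix A hgW hgc) hgd' hg1 a).2 hal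
    rw [this] at hga
    exact hab hga
  -- counting
  obtain ⟨hc1, hc2⟩ := count_eqs A.twoTrans (lineInvols_conj A)
    (fun g hg => (orderOf_two hg.1).1) (fun g hg => card_fix_lineInvol A hg) hab
  rw [fixers_lineInvols A hab] at hc1
  set m := Nat.card (invs A a b) with hm
  set k := Nat.card (swappers (lineInvols A) a b) with hk
  have hk12 : (A.u - 1) * m = 12 * k := by
    rw [hn] at hc1 hc2
    have hpos : 0 < (11 * A.u + 1) * (11 * A.u + 1 - 1) := Nat.mul_pos (by omega) (by omega)
    have : (11 * A.u + 1 - 12) * m = 132 * k := by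
      apply Nat.eq_of_mul_eq_mul_left hpos
      calc (11 * A.u + 1) * (11 * A.u + 1 - 1) * ((11 * A.u + 1 - 12) * m)
          = (11 * A.u + 1) * (11 * A.u + 1 - 1) * m * (11 * A.u + 1 - 12) := by ring
        _ = Nat.card (lineInvols A) * (12 * (12 - 1)) * (11 * A.u + 1 - 12) := by rw [← hc1]
        _ = 132 * (Nat.card (lineInvols A) * (11 * A.u + 1 - 12)) := by ring
        _ = _ := by rw [hc2]; ring
    rw [show 11 * A.u + 1 - 12 = 11 * (A.u - 1) by omega, mul_assoc] at this
    omega
  let J : Type u := {x : G // x ∈ A.W a ∧ x • b = b ∧ x * x = 1 ∧ w * x ∈ lineInvols A}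
  let φ : Fin 5 × J → ↥(swappers (lineInvols A) a b) := fun p =>
    ⟨w * y ^ (p.1 : ℕ) * p.2.1, (hI_iff' _ _ p.2.2.1 p.2.2.2.1).2 p.2.2.2.2.2,
      hswap' _ _ p.2.2.1 p.2.2.2.1⟩
  have hinj' : ∀ (i j : Fin 5) (x x' : G), x ∈ A.W a → x • b = b → x * x = 1 → x' ∈ A.W a →
      x' • b = b → x' * x' = 1 → w * y ^ (i : ℕ) * x = w * y ^ (j : ℕ) * x' → i = j ∧ x = x' := by
    intro i j x x' hx hxb hxx hx' hxb' hxx' h
    rw [mul_assoc, mul_assoc] at h
    have h' := mul_left_cancel h
    have hij : i = j := by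
      apply Fin.ext
      by_contra hne
      have hg2 : (y ^ (i : ℕ)) ^ 2 = (y ^ (j : ℕ)) ^ 2 := by
        have e1 : (y ^ (i : ℕ) * x) ^ 2 = (y ^ (j : ℕ) * x') ^ 2 := by rw [h']
        rw [((show Commute x y from hVy x hx hxb).pow_right _).symm.mul_pow,
          ((show Commute x' y from hVy x' hx' hxb').pow_right _).symm.mul_pow, sq x, sq x', hxx,
          hxx', mul_one, mul_one] at e1
        exact e1
      rw [← pow_mul, ← pow_mul, pow_eq_pow_iff_modEq, hy5, Nat.ModEq] at hg2
      have := i.2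
      have := j.2
      omega
    subst hij
    exact ⟨rfl, mul_left_cancel h'⟩
  have hφ : Function.Bijective φ := by
    constructor
    · rintro ⟨i, x, hx, hxb, hxx, hxI⟩ ⟨j, x', hx', hxb', hxx', hxI'⟩ h
      obtain ⟨rfl, rfl⟩ := hinj' i j x x' hx hxb hxx hx' hxb' hxx' (congrArg Subtype.val h)
      rfl
    · rintro ⟨g, hg, hga, hgb⟩
      obtain ⟨i, x, hi, hx, hxb, hxx, rfl⟩ :=
        hshape' g (orderOf_two hg.1).1 hga hgb (hIfpf g hg hga hgb)
      exact ⟨(⟨i, hi⟩, ⟨x, hx, hxb, hxx, (hI_iff' i x hx hxb).1 hg⟩), rfl⟩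
  have hkJ : k = 5 * Nat.card J := by
    rw [hk, ← Nat.card_eq_of_bijective φ hφ, Nat.card_prod, Nat.card_fin]
  have hmodd : Odd m := odd_invs A hab hv
  have hfpfx : ∀ x : G, x ∈ A.W a → x • b = b → ∀ c ∈ A.line a b, (w * x) • c ≠ c := by
    intro x hx hxb c hc
    rcases eq_or_ne x 1 with rfl | hx1
    · rw [mul_one]
      exact hwL c hc
    · rw [mul_smul, (A.V_fix a b x hab hx hxb hx1 c).2 hc]
      exact hwL c hc
  have hsmall : A.v ∣ 12 ∨ A.u ≤ 61 := by
    by_cases h : w ∈ lineInvols A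
    · left
      rw [← card_fix_lineInvol A h, ← A.card_V a b hab]
      exact card_dvd_fix A hab V le_rfl (fun x hx => hVw x hx.1 (mem_stabilizer_iff.1 hx.2)) hwL
    · right
      have hle : Nat.card J ≤ m := by
        have hord : ∀ x : J, x.1 ∈ invs A a b := by
          rintro ⟨x, hx, hxb, hxx, hxI⟩
          refine ⟨hx, hxb, orderOf_eq_prime (by rw [sq, hxx]) ?_⟩
          rintro rfl
          rw [mul_one] at hxI
          exact h hxI
        exact Nat.card_le_card_of_injective (fun x => (⟨x.1, hord x⟩ : ↥(invs A a b)))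
          fun x x' e => Subtype.ext (congrArg (fun r : ↥(invs A a b) => (r : G)) e)
      have hmpos : 0 < m := hmodd.pos
      have : (A.u - 1) * m ≤ 60 * m := by
        rw [hk12, hkJ]
        omega
      have := Nat.le_of_mul_le_mul_right this hmpos
      omega
  have h4 : 4 ∣ A.u - 1 := by
    have h : 4 ∣ (A.u - 1) * m := ⟨3 * k, by rw [hk12]; ring⟩
    refine Nat.Coprime.dvd_of_dvd_mul_right ?_ h
    rw [show (4 : ℕ) = 2 ^ 2 by norm_num]
    exact (Nat.coprime_two_left.2 hmodd).pow_left 2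
  have hns : ∀ (a b c : Ω) (x : G), a ≠ b → a ≠ c → x ∈ A.W a → x • b = b → x ≠ 1 →
      x • c ∈ A.line a c → c ∈ A.line a b := no_second A hv hsmall h4
  have hm1 : m = 1 := card_invs_one A hv hns hab
  -- the involution `z`
  obtain ⟨⟨z, hzW, hzb, hz2⟩, huz⟩ : ∃ z : ↥(invs A a b), ∀ z' : ↥(invs A a b), z' = z := by
    obtain ⟨hs, ⟨z⟩⟩ := Nat.card_eq_one_iff_unique.1 hm1
    exact ⟨z, fun z' => Subsingleton.elim _ _⟩
  have huniq : ∀ x : G, x ∈ A.W a → x • b = b → x * x = 1 → x ≠ 1 → x = z := fun x hx hxb hxx hx1 =>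
    congrArg Subtype.val (huz ⟨x, hx, hxb, orderOf_eq_prime (by rw [sq, hxx]) hx1⟩)
  obtain ⟨hzz, hz1⟩ := orderOf_two hz2
  have hza : z • a = a := fix_left A hzW
  have hzI : z ∈ lineInvols A := ⟨hz2, a, b, hab, hzW, hzb⟩
  have hzw : z * w = w * z := hVw z hzW hzb
  have hzL : ∀ c ∈ A.line a b, z • c = c := fun c hc => (A.V_fix a b z hab hzW hzb hz1 c).2 hc
  have hzcen : ∀ x : G, x ∈ A.W a → x • b = b → x * z = z * x := by
    intro x hx hxb
    have hW : x * z * x⁻¹ ∈ A.W a :=
      (A.W a).mul_mem ((A.W a).mul_mem hx hzW) ((A.W a).inv_mem hx)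
    have h2 : x * z * x⁻¹ = z := by
      refine huniq _ hW ?_ ?_ ?_
      · rw [mul_smul, mul_smul, inv_smul_eq_iff.2 hxb.symm, hzb, hxb]
      · rw [show x * z * x⁻¹ * (x * z * x⁻¹) = x * (z * z) * x⁻¹ by simp [mul_assoc], hzz,
          mul_one, mul_inv_cancel]
      · intro h
        exact hz1 (conj_eq_one_iff.1 h)
    exact mul_inv_eq_iff_eq_mul.1 h2
  -- the ten candidates
  let e : Bool → G := fun β => if β then z else 1
  have he : ∀ β, e β * e β = 1 := by intro β; cases β <;> simp [e, hzz]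
  have heW : ∀ β, e β ∈ A.W a := by intro β; cases β <;> simp [e, hzW]
  have heb : ∀ β, e β • b = b := by intro β; cases β <;> simp [e, hzb]
  have hea : ∀ β, e β • a = a := fun β => fix_left A (heW β)
  have hey : ∀ β, e β * y = y * e β := fun β => hVy _ (heW β) (heb β)
  have hew : ∀ β, e β * w = w * e β := fun β => hVw _ (heW β) (heb β)
  have hswap : ∀ (i : ℕ) (β : Bool), (w * y ^ i * e β) • a = b ∧ (w * y ^ i * e β) • b = a :=
    fun i β => hswap' i _ (heW β) (heb β)
  have hconj : ∀ (i : ℕ) (β : Bool), ∃ h : G, w * y ^ i * e β = h * (w * e β) * h⁻¹ :=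
    fun i β => hconj' i _ (heW β) (heb β)
  have hI_iff : ∀ (i : ℕ) (β : Bool),
      w * y ^ i * e β ∈ lineInvols A ↔ w * e β ∈ lineInvols A :=
    fun i β => hI_iff' i _ (heW β) (heb β)
  have hinjc : ∀ (i j : Fin 5) (β γ : Bool), w * y ^ (i : ℕ) * e β = w * y ^ (j : ℕ) * e γ →
      i = j ∧ e β = e γ :=
    fun i j β γ h => hinj' i j _ _ (heW β) (heb β) (he β) (heW γ) (heb γ) (he γ) h
  have hshape : ∀ g : G, g * g = 1 → g • a = b → g • b = a → (∀ c ∈ A.line a b, g • c ≠ c) →
      ∃ (i : ℕ) (β : Bool), i < 5 ∧ g = w * y ^ i * e β := by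
    intro g hgg hga hgb hgL
    obtain ⟨i, x, hi, hx, hxb, hxx, rfl⟩ := hshape' g hgg hga hgb hgL
    rcases eq_or_ne x 1 with rfl | hx1
    · exact ⟨i, false, hi, by simp [e]⟩
    · exact ⟨i, true, hi, by simp [e, huniq x hx hxb hxx hx1]⟩
  have hJcard : Nat.card J = Nat.card {β : Bool // w * e β ∈ lineInvols A} := by
    refine (Nat.card_eq_of_bijective
      (fun β : {β : Bool // w * e β ∈ lineInvols A} => (⟨e β.1, heW _, heb _, he _, β.2⟩ : J))
      ⟨?_, ?_⟩).symm
    · rintro ⟨β, hβ⟩ ⟨γ, hγ⟩ h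
      have h' : e β = e γ := congrArg Subtype.val h
      cases β <;> cases γ
      · rfl
      · exact absurd (show (1 : G) = z from h').symm hz1
      · exact absurd (show z = (1 : G) from h') hz1
      · rfl
    · rintro ⟨x, hx, hxb, hxx, hxI⟩
      rcases eq_or_ne x 1 with rfl | hx1
      · exact ⟨⟨false, by simpa [e] using hxI⟩, Subtype.ext (by simp [e])⟩
      · obtain rfl := huniq x hx hxb hxx hx1
        exact ⟨⟨true, by simpa [e] using hxI⟩, Subtype.ext (by simp [e])⟩
  rw [hm1, mul_one, hkJ, hJcard] at hk12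
  have hJne : ∃ β, w * e β ∈ lineInvols A := by
    by_contra h
    push Not at h
    haveI : IsEmpty {β : Bool // w * e β ∈ lineInvols A} := ⟨fun β => h β.1 β.2⟩
    rw [Nat.card_of_isEmpty] at hk12
    omega
  have hfpfL : ∀ β, ∀ c ∈ A.line a b, (w * e β) • c ≠ c := fun β => hfpfx _ (heW β) (heb β)
  have hcom : ∀ β, ∀ x : G, x ∈ A.W a → x • b = b → x * (w * e β) = w * e β * x := by
    intro β x hx hxb
    rw [← mul_assoc, hVw x hx hxb, mul_assoc, mul_assoc]
    cases β
    · simp [e]
    · simp [e, hzcen x hx hxb]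
  have hv12 : A.v ∣ 12 := by
    obtain ⟨β, hβ⟩ := hJne
    rw [← card_fix_lineInvol A hβ, ← A.card_V a b hab]
    exact card_dvd_fix A hab V le_rfl
      (fun x hx => hcom β x hx.1 (mem_stabilizer_iff.1 hx.2)) (hfpfL β)
  refine ⟨hv12, ?_⟩
  -- exactly one of the two fives consists of conjugates of `z`
  obtain ⟨β, hβ⟩ := hJne
  have hβ' : w * e (!β) ∉ lineInvols A := by
    intro h'
    have hall : ∀ γ, w * e γ ∈ lineInvols A := by
      intro γ
      cases γ <;> cases β <;> first | exact hβ | exact h'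
    have : Nat.card {γ : Bool // w * e γ ∈ lineInvols A} = 2 := by
      rw [Nat.card_congr (Equiv.subtypeUnivEquiv hall), Nat.card_eq_fintype_card, Fintype.card_bool]
    rw [this] at hk12
    refine A.false_of_u121 (by omega) ?_
    have h4v : ¬ 4 ∣ A.v := by
      intro h4v
      have hwI : w ∈ lineInvols A := by simpa [e] using hall false
      -- an element of order four of the two-point centraliser
      obtain ⟨H, hH⟩ := Sylow.exists_subgroup_card_pow_prime 2 (n := 2) (G := ↥V)
        (by rw [hV, A.card_V a b hab]; exact h4v)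
      haveI := Fintype.ofFinite ↥H
      obtain ⟨x, hx2⟩ : ∃ x : ↥H, ¬ (x : G) * (x : G) = 1 := by
        by_contra hcon
        push Not at hcon
        have hsub : ∀ x : ↥H, (x : G) = 1 ∨ (x : G) = z := fun x => or_iff_not_imp_left.2
          (huniq _ x.1.2.1 (mem_stabilizer_iff.1 x.1.2.2) (hcon x))
        have hle : Nat.card ↥H ≤ ({1, z} : Finset G).card := by
          rw [Nat.card_eq_fintype_card, ← Finset.card_univ]
          refine Finset.card_le_card_of_injOn (fun x => (x : G)) (fun x _ => ?_) (fun x _ x' _ h => ?_)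
          · rcases hsub x with h | h <;> simp [h]
          · exact Subtype.ext (Subtype.ext h)
        rw [hH] at hle
        have := Finset.card_le_two (a := (1 : G)) (b := z)
        omega
      have hxW : (x : G) ∈ A.W a := x.1.2.1
      have hxb : (x : G) • b = b := mem_stabilizer_iff.1 x.1.2.2
      have hx4 : (x : G) * x * ((x : G) * x) = 1 := by
        have h := pow_card_eq_one' (x := x)
        rw [hH] at h
        have h' : (x : G) ^ (2 ^ 2) = 1 := by simpa using congrArg (fun r : ↥H => (r : G)) h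
        rw [← h']
        simp [pow_succ, mul_assoc]
      have hxz : (x : G) * x = z := huniq _ ((A.W a).mul_mem hxW hxW)
        (by rw [mul_smul, hxb, hxb]) hx4 hx2
      -- the fixed line of `w`
      obtain ⟨hw2, p, q, hpq, hwp, hwq⟩ := id hwI
      obtain ⟨-, hw1⟩ := orderOf_two hw2
      obtain ⟨s, c, hcL, hscL, hsc, hss, hsw, hsne, hsfpf, hxs⟩ :=
        A.line_invol a b hab w hww hwa hwb hwL hVw
      -- involutions swapping two points of the line without fixed point there are line involutions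
      have hallI : ∀ g : G, g * g = 1 → g • c = s • c → g • s • c = c →
          (∀ d ∈ A.line a b, g • d ≠ d) → g ∈ lineInvols A := by
        intro g hgg hgc hgs hgL
        obtain ⟨h, hha, hhb⟩ := A.twoTrans c (s • c) a b hsc.symm hab
        have hhi : h⁻¹ • a = c ∧ h⁻¹ • b = s • c :=
          ⟨by rw [inv_smul_eq_iff, hha], by rw [inv_smul_eq_iff, hhb]⟩
        obtain ⟨i, γ, -, hg'⟩ := hshape (h * g * h⁻¹)
          (by rw [show h * g * h⁻¹ * (h * g * h⁻¹) = h * (g * g) * h⁻¹ by simp [mul_assoc], hgg,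
            mul_one, mul_inv_cancel])
          (by rw [mul_smul, mul_smul, hhi.1, hgc, hhb])
          (by rw [mul_smul, mul_smul, hhi.2, hgs, hha])
          (by
            intro d hd he'
            have hd' : h⁻¹ • d ∈ A.line a b := by
              have h1 := A.line_smul h⁻¹ a b hab
              rw [hhi.1, hhi.2, A.line_eq a b c (s • c) hab hcL hscL hsc.symm] at h1
              rw [h1]
              exact Set.mem_image_of_mem _ hd
            apply hgL _ hd'
            rw [mul_smul, mul_smul, ← eq_inv_smul_iff] at he'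
            exact he')
        have hmem : h * g * h⁻¹ ∈ lineInvols A := hg' ▸ (hI_iff i γ).2 (hall γ)
        have := lineInvols_conj A h⁻¹ _ hmem
        simpa [mul_assoc] using this
      have hsI : s ∈ lineInvols A :=
        hallI s hss rfl (by rw [← mul_smul, hss, one_smul]) hsfpf
      have hzs : z * s = s * z := hxs z hzW hzb
      have hzs2 : z * s * (z * s) = 1 := by
        calc z * s * (z * s) = z * (s * z) * s := by simp only [mul_assoc]
          _ = 1 := by rw [← hzs, ← mul_assoc z z s, hzz, one_mul, hss]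
      have hzsI : z * s ∈ lineInvols A := hallI (z * s) hzs2
        (by rw [mul_smul, hzL _ hscL])
        (by rw [mul_smul, ← mul_smul s s, hss, one_smul, hzL _ hcL])
        (fun d hd h => hsfpf d hd (by
          have h' := congrArg (fun r : Ω => z • r) h
          simp only [mul_smul] at h'
          rwa [← mul_smul z z, hzz, one_smul, hzL d hd] at h'))
      have hfixL : ∀ d, d ∈ A.line p q ↔ w • d = d := fun d =>
        (A.V_fix p q w hpq hwp hwq hw1 d).symm
      have hpres : ∀ g : G, g * w = w * g → ∀ d ∈ A.line p q, g • d ∈ A.line p q := by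
        intro g hg d hd
        rw [hfixL] at hd ⊢
        rw [← mul_smul, ← hg, mul_smul, hd]
      have hzfree : ∀ d ∈ A.line p q, z • d ≠ d := by
        intro d hd h
        exact hwL d ((A.V_fix a b z hab hzW hzb hz1 d).1 h) ((hfixL d).1 hd)
      -- a line involution commuting with `w` with a fixed point on the line of `w` is `w`
      have hshare : ∀ g ∈ lineInvols A, g * w = w * g → g ≠ w → ∀ d ∈ A.line p q, g • d ≠ d := by
        intro g hg hgw hne d hd hgd
        obtain ⟨hgg, hg1⟩ := orderOf_two hg.1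
        let S : SubMulAction ↥(Subgroup.zpowers g) Ω :=
          { carrier := {r | w • r = r}
            smul_mem' := fun r t ht => by
              obtain ⟨r, hr⟩ := r
              show w • r • t = r • t
              have hle : Subgroup.zpowers g ≤ Subgroup.centralizer ({w} : Set G) :=
                Subgroup.zpowers_le.2 (Subgroup.mem_centralizer_singleton_iff.2 hgw)
              rw [← mul_smul, ← Subgroup.mem_centralizer_singleton_iff.1 (hle hr), mul_smul, ht] }
        let gt : ↥(Subgroup.zpowers g) := ⟨g, Subgroup.mem_zpowers g⟩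
        have hS : Even (Nat.card ↥S) := by
          show Even (Nat.card {r : Ω // w • r = r})
          rw [card_fix_lineInvol A hwI]
          decide
        obtain ⟨d', hdd, hgd'⟩ := exists_second_fixed (G := ↥(Subgroup.zpowers g)) (Ω := ↥S) hS
          (t := gt) (Subtype.ext hgg) (c := ⟨d, (hfixL d).1 hd⟩) (Subtype.ext hgd)
        have hgd'' : g • (d' : Ω) = d' := congrArg Subtype.val hgd'
        have hne' : d ≠ (d' : Ω) := fun h => hdd (Subtype.ext h.symm)
        apply hne
        obtain ⟨-, p', q', -, hgW, -⟩ := id hg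
        have hone : Nat.card (invs A d (d' : Ω)) = 1 := card_invs_one A hv hns hne'
        obtain ⟨hss', -⟩ := Nat.card_eq_one_iff_unique.1 hone
        exact congrArg Subtype.val (Subsingleton.elim
          (⟨g, mem_W_of_fix A hgW hgd, hgd'', hg.1⟩ : ↥(invs A d (d' : Ω)))
          ⟨w, mem_W_of_fix A hwp ((hfixL d).1 hd), d'.2, hw2⟩)
      obtain ⟨d0, hd0, hd0ne⟩ := hsne
      have hsw' : s ≠ w := fun h => hd0ne (by rw [h])
      have hzsw : z * s ≠ w := by
        intro h
        apply hd0ne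
        have hsd : s = z * w := by rw [← h, ← mul_assoc, hzz, one_mul]
        rw [hsd, hzw, mul_smul, hzL d0 hd0]
      refine A.line_four p q hpq (x : G) s (hpres _ (hVw _ hxW hxb)) (hpres s hsw) (hxs _ hxW hxb)
        hss ?_ (hshare s hsI hsw hsw') ?_ ?_
      · intro d _
        rw [hx4, one_smul]
      · rw [hxz]
        exact hzfree
      · rw [hxz]
        exact hshare _ hzsI (by rw [mul_assoc, hsw, ← mul_assoc, hzw, mul_assoc]) hzsw
    have hd12 : A.v ∈ Nat.divisors 12 := Nat.mem_divisors.2 ⟨hv12, by norm_num⟩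
    rw [Nat.even_iff] at hv
    rw [show Nat.divisors 12 = {1, 2, 3, 4, 6, 12} from by decide] at hd12
    simp only [Finset.mem_insert, Finset.mem_singleton] at hd12
    rcases hd12 with h | h | h | h | h | h <;> rw [h] at hv h4v ⊢ <;> revert hv h4v <;> decide
  have hu : A.u = 61 := by
    have : Nat.card {γ : Bool // w * e γ ∈ lineInvols A} = 1 := by
      rw [Nat.card_eq_one_iff_unique]
      refine ⟨⟨fun p q => Subtype.ext ?_⟩, ⟨⟨β, hβ⟩⟩⟩
      have hh : ∀ γ : {γ : Bool // w * e γ ∈ lineInvols A}, γ.1 = β := by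
        intro γ
        by_contra hne
        exact hβ' ((show (!β) = γ.1 by cases β <;> cases hγ : γ.1 <;> simp_all).symm ▸ γ.2)
      rw [hh p, hh q]
    rw [this] at hk12
    omega
  set w₀ : G := w * e (!β) with hw₀
  have hw0sq : w₀ * w₀ = 1 := by
    calc w₀ * w₀ = w * (e (!β) * w) * e (!β) := by rw [hw₀]; simp only [mul_assoc]
      _ = (w * w) * (e (!β) * e (!β)) := by rw [hew]; simp only [mul_assoc]
      _ = 1 := by rw [hww, he, one_mul]
  have hw0a : w₀ • a = b := by rw [hw₀, mul_smul, hea, hwa]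
  have hw0b : w₀ • b = a := by rw [hw₀, mul_smul, heb, hwb]
  have hw01 : w₀ ≠ 1 := by
    intro h
    rw [h, one_smul] at hw0a
    exact hab hw0a
  let C : Set G := {g | ∃ h : G, g = h * w₀ * h⁻¹}
  have hC : ∀ h g : G, g ∈ C → h * g * h⁻¹ ∈ C := by
    rintro h g ⟨l, rfl⟩
    exact ⟨h * l, by simp [mul_assoc]⟩
  have hCinv : ∀ g ∈ C, g * g = 1 := by
    rintro g ⟨l, rfl⟩
    rw [show l * w₀ * l⁻¹ * (l * w₀ * l⁻¹) = l * (w₀ * w₀) * l⁻¹ by simp [mul_assoc], hw0sq]
    simp
  have hCI0 : ∀ g ∈ C, g ∉ lineInvols A := by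
    rintro g ⟨l, rfl⟩ h
    have := lineInvols_conj A l⁻¹ _ h
    exact hβ' (by simpa [mul_assoc] using this)
  have hCord : ∀ g ∈ C, orderOf g = 2 := by
    intro g hg
    refine orderOf_eq_prime (by rw [sq, hCinv g hg]) ?_
    obtain ⟨l, rfl⟩ := hg
    intro h
    apply hw01
    simpa [mul_inv_eq_one] using h
  have hfpf : ∀ c : Ω, w₀ • c ≠ c := by
    intro c hc
    obtain ⟨d, hdc, hd⟩ := exists_second_fixed
      (show Even (Nat.card Ω) by rw [hn, hu]; decide) hw0sq hc
    have hCW : ∀ g ∈ C, g • c = c → g • d = d → g ∉ A.W c := fun g hg _ hgd h =>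
      hCI0 g hg ⟨hCord g hg, c, d, hdc.symm, h, hgd⟩
    have hw0C : w₀ ∈ C := ⟨1, by simp⟩
    have hW : w₀ ∉ A.W c := hCW _ hw0C hc hd
    have hf : ∀ g ∈ C, Nat.card {x : Ω // g • x = x} = Nat.card {x : Ω // w₀ • x = x} := by
      rintro g ⟨l, rfl⟩
      refine Nat.card_congr
        { toFun := fun x => ⟨l⁻¹ • x.1, ?_⟩
          invFun := fun x => ⟨l • x.1, ?_⟩
          left_inv := fun x => Subtype.ext (smul_inv_smul l x.1)
          right_inv := fun x => Subtype.ext (inv_smul_smul l x.1) }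
      · have := congrArg (fun p : Ω => l⁻¹ • p) x.2
        simpa [mul_smul] using this
      · simp [mul_smul, x.2]
    obtain ⟨he1, he2⟩ := count_eqs A.twoTrans hC hCinv hf hab
    -- bounds on the two parameters
    have hs1 : 1 ≤ Nat.card (fixers C a b) := by
      rw [card_fixers_eq A.twoTrans hC hab hdc.symm]
      haveI : Nonempty (fixers C c d) := ⟨⟨w₀, hw0C, hc, hd⟩⟩
      exact Nat.card_pos
    have hsv : Nat.card (fixers C a b) ≤ A.v := by
      rw [card_fixers_eq A.twoTrans hC hab hdc.symm, ← A.card_V c d hdc.symm]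
      refine Nat.card_le_card_of_injective (fun g => ⟨w₀ * g.1, ?_, ?_⟩) ?_
      · exact invol_mul_mem A hdc.symm hw0sq (hCinv _ g.2.1) hc hd g.2.2.1 g.2.2.2 hW
          (hCW _ g.2.1 g.2.2.1 g.2.2.2)
      · exact mem_stabilizer_iff.2 (by rw [mul_smul, g.2.2.2, hd])
      · intro g h hgh
        exact Subtype.ext (mul_left_cancel (congrArg Subtype.val hgh))
    have hk10 : Nat.card (swappers C a b) ≤ 10 * A.v := by
      refine le_trans ?_ (Nat.le_of_dvd
        (Nat.mul_pos (by norm_num) (Nat.pos_of_dvd_of_pos hv12 (by norm_num))) (A.card_M a b hab).1)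
      refine Nat.card_le_card_of_injective (fun g => ⟨w * g.1, ?_, ?_⟩) ?_
      · exact mem_stabilizer_iff.2 (by rw [mul_smul, g.2.2.1, hwb])
      · exact mem_stabilizer_iff.2 (by rw [mul_smul, g.2.2.2, hwa])
      · intro g h hgh
        exact Subtype.ext (mul_left_cancel (congrArg Subtype.val hgh))
    have hk5 : 5 ≤ Nat.card (swappers C a b) := by
      have hmem : ∀ i : Fin 5, w * y ^ (i : ℕ) * e (!β) ∈ swappers C a b := fun i =>
        ⟨hconj i (!β), hswap i (!β)⟩
      rw [show 5 = Nat.card (Fin 5) from (Nat.card_fin 5).symm]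
      exact Nat.card_le_card_of_injective (fun i => ⟨_, hmem i⟩)
        fun i j h => (hinjc i j _ _ (congrArg Subtype.val h)).1
    have hv12' : A.v ≤ 12 := Nat.le_of_dvd (by norm_num) hv12
    rw [hn, hu] at he1 he2
    have hh := fix_card_of_not_mem_W A hu hv12 hdc hc hd hW
    generalize Nat.card {x : Ω // w₀ • x = x} = F at hh he1 he2
    generalize Nat.card C = N at he1 he2
    generalize Nat.card (fixers C a b) = σ at hs1 hsv he1
    generalize Nat.card (swappers C a b) = κ at hk5 hk10 he2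
    rcases hh with rfl | rfl <;> omega
  refine ⟨{
    a := a
    b := b
    hab := hab
    y := y
    y_order := hy5
    ya := hya
    yb := hyb
    y_comm := hVy
    w := w₀
    ww := hw0sq
    wa := hw0a
    wb := hw0b
    wy := ?_
    w_comm := hcom (!β)
    w_fpf := hfpf
    same := ?_ }, trivial⟩
  · calc w₀ * y * w₀⁻¹ = w * (e (!β) * y) * (e (!β))⁻¹ * w⁻¹ := by
          rw [hw₀]; simp only [mul_inv_rev, mul_assoc]
      _ = w * y * w⁻¹ := by rw [hey]; simp only [mul_assoc, mul_inv_cancel_left]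
      _ = y⁻¹ := hwy
  · rintro g hg hga hgb
    have hgC : g ∈ C := hg
    obtain ⟨l, hl⟩ := hgC
    have hgL : ∀ c ∈ A.line a b, g • c ≠ c := by
      intro c _ h
      rw [hl, mul_smul, mul_smul] at h
      exact hfpf (l⁻¹ • c) (by rw [eq_inv_smul_iff]; exact h)
    obtain ⟨i, γ, -, rfl⟩ := hshape g (hCinv g hg) hga hgb hgL
    have hγ : γ = !β := by
      by_contra hne
      have : γ = β := by cases γ <;> cases β <;> first | rfl | exact absurd rfl hne
      exact hCI0 _ hg ((hI_iff i γ).2 (this ▸ hβ))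
    refine ⟨i, ?_⟩
    rw [hγ, hw₀, mul_assoc w (e (!β)), ((show Commute (e (!β)) y from hey _).pow_right i).eq,
      ← mul_assoc]

end H25.Eleven
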