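import Cfsg.Agent.H63.Eleven.AGood
import Cfsg.Agent.H25.Eleven.ClassCount

/-!
Lines through a point in case A of S3403.
-/

set_option autoImplicit false
set_option linter.style.haveILetI false
set_option linter.unusedSectionVars false

namespace H25.Eleven

open H63.Eleven MulAction

universe u v

variable {G : Type u} {Ω : Type v} [Group G] [Finite G] [MulAction G Ω] (A : ACore G Ω)

theorem finite_points (A : ACore G Ω) : Finite Ω :=
  Nat.finite_of_card_ne_zero (by rw [A.card_points]; omega)

theorem fix_left {a : Ω} {x : G} (hx : x ∈ A.W a) : x • a = a :=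
  MulAction.mem_stabilizer_iff.1 (A.W_le a hx)

theorem orderOf_two {t : G} (h : orderOf t = 2) : t * t = 1 ∧ t ≠ 1 := by
  have := pow_orderOf_eq_one t
  rw [h, sq] at this
  refine ⟨this, ?_⟩
  rintro rfl
  simp at h

/-- A non-trivial element of a two-point centraliser centralises each of its fixed points. -/
theorem mem_W_of_fix {a c : Ω} {x : G} (hx : x ∈ A.W a) (hc : x • c = c) : x ∈ A.W c := by
  by_cases h : a = c
  · exact h ▸ hx
  · exact A.V_sym a c x h hx hc

theorem comm_P {a : Ω} {x p : G} (hx : x ∈ A.W a) (hp : p ∈ A.P a) : x * p = p * x :=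
  (A.W_iff a x).1 hx p hp

/-- Only the identity of `P a` squares into a stabiliser of another point. -/
theorem P_sq_eq_one {a c : Ω} (hac : a ≠ c) {p : G} (hp : p ∈ A.P a) (h : (p * p) • c = c) :
    p = 1 := by
  have h11 : p ^ 11 = 1 := by
    have := pow_card_eq_one' (G := ↥(A.P a)) (x := ⟨p, hp⟩)
    rw [A.card_P] at this
    exact congrArg Subtype.val this
  have h2 : p * p = 1 := by
    by_contra h2
    exact hac (A.P_fix a c _ ((A.P a).mul_mem hp hp) h2 h).symm
  calc p = p ^ 11 * ((p * p) ^ 5)⁻¹ := by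
        rw [eq_mul_inv_iff_mul_eq, ← sq, ← pow_mul, ← pow_succ']
    _ = 1 := by rw [h11, h2, one_pow, inv_one, one_mul]

theorem mem_line_iff {a c d : Ω} (hac : a ≠ c) (had : a ≠ d) :
    A.line a d = A.line a c ↔ d ∈ A.line a c := by
  constructor
  · intro h
    exact h ▸ A.line_right a d had
  · intro h
    exact A.line_eq a c a d hac (A.line_left a c hac) h had

/-- `g` fixes `a` and stabilises the line through `a` and `c`. -/
def LineStab (a c : Ω) (g : G) : Prop := g • a = a ∧ A.line a (g • c) = A.line a c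

theorem ne_smul {a c : Ω} {g : G} (hac : a ≠ c) (hg : g • a = a) : a ≠ g • c :=
  fun h => hac (MulAction.injective g (hg.trans h))

theorem lineStab_iff {a c : Ω} {g : G} (hac : a ≠ c) (hg : g • a = a) :
    LineStab A a c g ↔ g • c ∈ A.line a c := by
  rw [LineStab, mem_line_iff A hac (ne_smul hac hg)]
  simp [hg]

theorem LineStab.mul {a c : Ω} {g h : G} (hac : a ≠ c) (hg : LineStab A a c g)
    (hh : LineStab A a c h) : LineStab A a c (g * h) := by
  refine ⟨by rw [mul_smul, hh.1, hg.1], ?_⟩
  have h1 := A.line_smul g a (h • c) (ne_smul hac hh.1)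
  have h2 := A.line_smul g a c hac
  rw [hh.2, hg.1] at h1
  rw [hg.1] at h2
  rw [mul_smul, h1, ← h2, hg.2]

theorem LineStab.inv {a c : Ω} {g : G} (hac : a ≠ c) (hg : LineStab A a c g) :
    LineStab A a c g⁻¹ := by
  have ha : g⁻¹ • a = a := by rw [inv_smul_eq_iff, hg.1]
  refine ⟨ha, ?_⟩
  have h1 := A.line_smul g⁻¹ a (g • c) (ne_smul hac hg.1)
  have h2 := A.line_smul g⁻¹ a c hac
  rw [inv_smul_smul, hg.2, ha] at h1
  rw [ha] at h2
  rw [h2, ← h1]

theorem lineStab_P {a c : Ω} {p : G} (hac : a ≠ c) (hp : p ∈ A.P a) : LineStab A a c p :=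
  (lineStab_iff A hac (fix_left A (A.P_le a hp))).2 (A.P_line a c p hac hp)

theorem lineStab_of_fix {a c : Ω} {g : G} (hac : a ≠ c) (hg : g • a = a) (hc : g • c = c) :
    LineStab A a c g :=
  (lineStab_iff A hac hg).2 (by rw [hc]; exact A.line_right a c hac)

/-- An involution centralising `a` and stabilising a line through `a` fixes it pointwise. -/
theorem invol_fix_line {a c : Ω} {z : G} (hac : a ≠ c) (hz : z ∈ A.W a) (hzz : z * z = 1)
    (h : z • c ∈ A.line a c) : z • c = c := by
  obtain ⟨p, hp, hpc⟩ := A.line_stab a c z hac hz h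
  have hsq : (p * p) • c = c := by
    have h1 : z * p * (z * p) = p * p := by
      calc z * p * (z * p) = z * (p * z) * p := by simp only [mul_assoc]
        _ = p * p := by rw [← comm_P A hz hp, ← mul_assoc z z, hzz, one_mul]
    rw [← h1, mul_smul, hpc, hpc]
  rwa [P_sq_eq_one A hac hp hsq, mul_one] at hpc

/-- The involutions of a two-point centraliser. -/
def invs (a b : Ω) : Set G := {x | x ∈ A.W a ∧ x • b = b ∧ orderOf x = 2}

/-- The involutions of two-point centralisers. -/
def lineInvols : Set G :=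
  {g | orderOf g = 2 ∧ ∃ c d : Ω, c ≠ d ∧ g ∈ A.W c ∧ g • d = d}

theorem lineInvols_conj (h g : G) (hg : g ∈ lineInvols A) : h * g * h⁻¹ ∈ lineInvols A := by
  obtain ⟨h2, c, d, hcd, hgW, hgd⟩ := hg
  refine ⟨?_, h • c, h • d, fun e => hcd (MulAction.injective h e), A.W_conj h g c hgW, ?_⟩
  · rw [← h2]
    exact orderOf_injective (MulAut.conj h).toMonoidHom (MulAut.conj h).injective g
  · rw [mul_smul, mul_smul, inv_smul_smul, hgd]

theorem card_fix_lineInvol {g : G} (hg : g ∈ lineInvols A) :
    Nat.card {c : Ω // g • c = c} = 12 := by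
  obtain ⟨h2, c, d, hcd, hgW, hgd⟩ := hg
  rw [← A.line_card c d hcd]
  exact Nat.card_congr
    (Equiv.subtypeEquivRight fun e => A.V_fix c d g hcd hgW hgd (orderOf_two h2).2 e)

theorem fixers_lineInvols {a b : Ω} (hab : a ≠ b) : fixers (lineInvols A) a b = invs A a b := by
  ext g
  constructor
  · rintro ⟨⟨h2, c, d, -, hgW, -⟩, hga, hgb⟩
    exact ⟨mem_W_of_fix A hgW hga, hgb, h2⟩
  · rintro ⟨hgW, hgb, h2⟩
    exact ⟨⟨h2, a, b, hab, hgW, hgb⟩, fix_left A hgW, hgb⟩

theorem card_invs_eq {a b c d : Ω} (hab : a ≠ b) (hcd : c ≠ d) :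
    Nat.card (invs A a b) = Nat.card (invs A c d) := by
  haveI := finite_points A
  rw [← fixers_lineInvols A hab, ← fixers_lineInvols A hcd]
  exact card_fixers_eq A.twoTrans (lineInvols_conj A) hab hcd

/-- A permutation of order two of an even finite set fixing a point fixes a second one. -/
theorem exists_second_fixed [Finite Ω] (hn : Even (Nat.card Ω)) {t : G} (ht : t * t = 1) {c : Ω}
    (hc : t • c = c) : ∃ d, d ≠ c ∧ t • d = d := by
  haveI : Fact (Nat.Prime 2) := ⟨Nat.prime_two⟩
  have hp : IsPGroup 2 ↥(Subgroup.zpowers t) := by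
    have hd := orderOf_dvd_of_pow_eq_one (show t ^ 2 = 1 by rw [sq, ht])
    rw [Nat.dvd_prime Nat.prime_two] at hd
    rcases hd with hd | hd
    · exact IsPGroup.of_card (n := 0) (by rw [Nat.card_zpowers, hd, pow_zero])
    · exact IsPGroup.of_card (n := 1) (by rw [Nat.card_zpowers, hd, pow_one])
  have hmod := hp.card_modEq_card_fixedPoints (α := Ω)
  have hiff : ∀ e : Ω, e ∈ fixedPoints (Subgroup.zpowers t) Ω ↔ t • e = e := by
    intro e
    constructor
    · intro h
      exact h ⟨t, Subgroup.mem_zpowers t⟩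
    · rintro h ⟨g, hg⟩
      have : Subgroup.zpowers t ≤ stabilizer G e := Subgroup.zpowers_le.2 (mem_stabilizer_iff.2 h)
      exact mem_stabilizer_iff.1 (this hg)
  by_contra hne
  have hone : Nat.card (fixedPoints (Subgroup.zpowers t) Ω) = 1 := by
    rw [Nat.card_eq_one_iff_unique]
    refine ⟨⟨fun x y => Subtype.ext ?_⟩, ⟨⟨c, (hiff c).2 hc⟩⟩⟩
    have : ∀ z : fixedPoints (Subgroup.zpowers t) Ω, (z : Ω) = c := fun z => by
      by_contra hz
      exact hne ⟨z, hz, (hiff _).1 z.2⟩
    rw [this x, this y]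
  rw [hone] at hmod
  obtain ⟨m, hm⟩ := hn
  rw [hm] at hmod
  unfold Nat.ModEq at hmod
  omega

/-- A group of even order has an odd number of involutions. -/
theorem odd_invs {a b : Ω} (hab : a ≠ b) (hv : Even A.v) : Odd (Nat.card (invs A a b)) := by
  classical
  set V : Subgroup G := A.W a ⊓ stabilizer G b with hV
  haveI := Fintype.ofFinite ↥V
  have h0 : (((Finset.univ : Finset ↥V).filter fun x => ¬ x * x = 1).card : ZMod 2) = 0 := by
    rw [Finset.cast_card]
    refine Finset.sum_involution (fun x _ => x⁻¹) (fun x _ => ?_) (fun x hx _ => ?_)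
      (fun x hx => ?_) (fun x _ => inv_inv x)
    · exact CharTwo.add_self_eq_zero 1
    · intro h
      exact (Finset.mem_filter.1 hx).2 (by nth_rewrite 1 [← h]; rw [inv_mul_cancel])
    · simp only [Finset.mem_filter, Finset.mem_univ, true_and] at hx ⊢
      rwa [← mul_inv_rev, inv_eq_one]
  have h1 : ((Finset.univ : Finset ↥V).filter fun x => x * x = 1).card =
      Nat.card (invs A a b) + 1 := by
    have hone : ((Finset.univ : Finset ↥V).filter fun x => x * x = 1) =
        insert 1 ((Finset.univ : Finset ↥V).filter fun x => orderOf x = 2) := by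
      ext x
      simp only [Finset.mem_filter, Finset.mem_univ, true_and, Finset.mem_insert]
      constructor
      · intro hx
        by_cases h : x = 1
        · exact Or.inl h
        · exact Or.inr (orderOf_eq_prime (hp := ⟨Nat.prime_two⟩) (by rw [sq, hx]) h)
      · rintro (rfl | h)
        · simp
        · exact (orderOf_two h).1
    rw [hone, Finset.card_insert_of_notMem (by simp), Nat.add_right_cancel_iff,
      ← Fintype.card_subtype, ← Nat.card_eq_fintype_card]
    exact Nat.card_congr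
      { toFun := fun x => ⟨x.1.1, x.1.2.1, mem_stabilizer_iff.1 x.1.2.2,
          by rw [Subgroup.orderOf_coe]; exact x.2⟩
        invFun := fun x => ⟨⟨x.1, x.2.1, mem_stabilizer_iff.2 x.2.2.1⟩,
          by rw [← Subgroup.orderOf_coe]; exact x.2.2.2⟩
        left_inv := fun x => rfl
        right_inv := fun x => rfl }
  have h2 := Finset.card_filter_add_card_filter_not (s := (Finset.univ : Finset ↥V))
    (fun x => x * x = 1)
  rw [h1, Finset.card_univ, ← Nat.card_eq_fintype_card,
    show Nat.card ↥V = A.v from A.card_V a b hab] at h2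
  rw [ZMod.natCast_eq_zero_iff_even] at h0
  obtain ⟨i, hi⟩ := h0
  obtain ⟨j, hj⟩ := hv
  exact ⟨j - i - 1, by omega⟩

/-- Two involutions fixing two points and outside `W` differ by an element of `W`. -/
theorem invol_mul_mem {c d : Ω} (hcd : c ≠ d) {s t : G} (hs : s * s = 1) (ht : t * t = 1)
    (hsc : s • c = c) (hsd : s • d = d) (htc : t • c = c) (htd : t • d = d)
    (hsW : s ∉ A.W c) (htW : t ∉ A.W c) : s * t ∈ A.W c := by
  set M : Subgroup G := stabilizer G c ⊓ stabilizer G d with hM
  set V : Subgroup G := A.W c ⊓ stabilizer G d with hV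
  have hVM : V ≤ M := inf_le_inf_right _ (A.W_le c)
  set N : Subgroup ↥M := V.subgroupOf M with hN
  haveI : N.Normal := ⟨fun x hx g => by
    rw [hN, Subgroup.mem_subgroupOf] at hx ⊢
    push_cast
    refine ⟨?_, ?_⟩
    · have := A.W_conj (g : G) (x : G) c hx.1
      rwa [mem_stabilizer_iff.1 g.2.1] at this
    · exact (stabilizer G d).mul_mem ((stabilizer G d).mul_mem g.2.2 hx.2)
        ((stabilizer G d).inv_mem g.2.2)⟩
  have hcomm : ∀ x y : ↥M ⧸ N, x * y = y * x := by
    intro x y
    refine QuotientGroup.induction_on x fun x => ?_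
    refine QuotientGroup.induction_on y fun y => ?_
    rw [← QuotientGroup.mk_mul, ← QuotientGroup.mk_mul, QuotientGroup.eq, hN,
      Subgroup.mem_subgroupOf]
    push_cast
    have e : ((x : G) * y)⁻¹ * (y * x) =
        (y : G)⁻¹ * (x : G)⁻¹ * ((y : G)⁻¹)⁻¹ * ((x : G)⁻¹)⁻¹ := by
      simp [mul_assoc]
    rw [e]
    refine ⟨A.comm_mem c (y : G)⁻¹ (x : G)⁻¹ ?_ ?_, ?_⟩
    · exact mem_stabilizer_iff.1 ((stabilizer G c).inv_mem y.2.1)
    · exact mem_stabilizer_iff.1 ((stabilizer G c).inv_mem x.2.1)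
    · simp only [inv_inv]
      exact (stabilizer G d).mul_mem ((stabilizer G d).mul_mem ((stabilizer G d).mul_mem
        ((stabilizer G d).inv_mem y.2.2) ((stabilizer G d).inv_mem x.2.2)) y.2.2) x.2.2
  let σ : ↥M := ⟨s, mem_stabilizer_iff.2 hsc, mem_stabilizer_iff.2 hsd⟩
  let τ : ↥M := ⟨t, mem_stabilizer_iff.2 htc, mem_stabilizer_iff.2 htd⟩
  have hq : Nat.card (↥M ⧸ N) ∣ 10 := by
    have h1 := (A.card_M c d hcd).1
    rw [← hM, Subgroup.card_eq_card_quotient_mul_card_subgroup N,
      Nat.card_congr (Subgroup.subgroupOfEquivOfLe hVM).toEquiv, hV, A.card_V c d hcd] at h1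
    have hv : 0 < A.v := by
      rw [← A.card_V c d hcd]
      exact Nat.card_pos
    exact Nat.dvd_of_mul_dvd_mul_right hv h1
  have hord : ∀ r : ↥M, (r : G) * r = 1 → (r : G) ∉ A.W c →
      orderOf (QuotientGroup.mk r : ↥M ⧸ N) = 2 := by
    intro r hr hrW
    refine orderOf_eq_prime (hp := ⟨Nat.prime_two⟩) ?_ ?_
    · rw [sq, ← QuotientGroup.mk_mul, show r * r = 1 from Subtype.ext hr]
      rfl
    · intro h
      rw [QuotientGroup.eq_one_iff, hN, Subgroup.mem_subgroupOf] at h
      exact hrW h.1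
  have hσ := hord σ hs hsW
  have hτ := hord τ ht htW
  by_contra hst
  set Z : Subgroup (↥M ⧸ N) := Subgroup.zpowers (QuotientGroup.mk σ) with hZ
  haveI : Z.Normal := ⟨fun x hx g => by rwa [hcomm g x, mul_inv_cancel_right]⟩
  have hτZ : (QuotientGroup.mk τ : ↥M ⧸ N) ∉ Z := by
    intro h
    classical
    rw [hZ, mem_zpowers_iff_mem_range_orderOf, hσ] at h
    simp only [Finset.mem_image, Finset.mem_range] at h
    obtain ⟨i, hi, he⟩ := h
    interval_cases i
    · rw [pow_zero] at he
      rw [← he] at hτ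
      simp at hτ
    · rw [pow_one, QuotientGroup.eq, hN, Subgroup.mem_subgroupOf] at he
      apply hst
      have h := he.1
      simp only [Subgroup.coe_mul, InvMemClass.coe_inv] at h
      have hsi : ((σ : ↥M) : G)⁻¹ = s := inv_eq_of_mul_eq_one_left hs
      rw [hsi] at h
      exact h
  have h2 : orderOf (QuotientGroup.mk (QuotientGroup.mk τ : ↥M ⧸ N) : (↥M ⧸ N) ⧸ Z) = 2 := by
    refine orderOf_eq_prime (hp := ⟨Nat.prime_two⟩) ?_ ?_
    · rw [← QuotientGroup.mk_pow]
      have := pow_orderOf_eq_one (QuotientGroup.mk τ : ↥M ⧸ N)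
      rw [hτ] at this
      rw [this]
      rfl
    · rwa [ne_eq, QuotientGroup.eq_one_iff]
  have h4 : 4 ∣ Nat.card (↥M ⧸ N) := by
    rw [Subgroup.card_eq_card_quotient_mul_card_subgroup Z, hZ, Nat.card_zpowers, hσ]
    have hd : 2 ∣ Nat.card ((↥M ⧸ N) ⧸ Z) := h2 ▸ orderOf_dvd_natCard _
    exact Nat.mul_dvd_mul_right hd 2
  exact absurd (h4.trans hq) (by norm_num)

/-- A subgroup of a two-point centraliser commuting with an element without fixed point on the
line acts semiregularly on the fixed points of the latter. -/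
theorem card_dvd_fix {a b : Ω} (hab : a ≠ b) (H : Subgroup G)
    (hH : H ≤ A.W a ⊓ stabilizer G b) {g : G} (hg : ∀ x ∈ H, x * g = g * x)
    (hfpf : ∀ c ∈ A.line a b, g • c ≠ c) :
    Nat.card H ∣ Nat.card {c : Ω // g • c = c} := by
  classical
  haveI := finite_points A
  let S : SubMulAction ↥H Ω :=
    { carrier := {c | g • c = c}
      smul_mem' := fun x c hc => by
        show g • (x : G) • c = (x : G) • c
        rw [← mul_smul, ← hg x x.2, mul_smul, hc] }
  have hfree : ∀ c : ↥S, stabilizer ↥H c = ⊥ := by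
    intro c
    rw [Subgroup.eq_bot_iff_forall]
    intro x hx
    by_contra hne
    refine hfpf c ((A.V_fix a b x hab (hH x.2).1 (mem_stabilizer_iff.1 (hH x.2).2)
      (fun h => hne (Subtype.ext h)) c).1 (congrArg Subtype.val (mem_stabilizer_iff.1 hx))) c.2
  have horb : ∀ c : ↥S, Nat.card (orbit ↥H c) = Nat.card H := by
    intro c
    haveI := Fintype.ofFinite ↥H
    haveI := Fintype.ofFinite (orbit ↥H c)
    haveI := Fintype.ofFinite (stabilizer ↥H c)
    have h := card_orbit_mul_card_stabilizer_eq_card_group ↥H c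
    simp only [← Nat.card_eq_fintype_card] at h
    rw [hfree c, Subgroup.card_bot, mul_one] at h
    exact h
  haveI := Fintype.ofFinite (Quotient (orbitRel ↥H ↥S))
  show Nat.card H ∣ Nat.card ↥S
  rw [Nat.card_congr (selfEquivSigmaOrbits' ↥H ↥S), Nat.card_sigma]
  refine Finset.dvd_sum fun q _ => ?_
  obtain ⟨c, rfl⟩ := Quotient.exists_rep q
  exact dvd_of_eq (horb c).symm

end H25.Eleven
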