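import Cfsg.Agent.H25.Eleven.Lines

/-!
Case A of S3403, even two-point centralisers: no element stabilises a second line, and there is a
single involution.
-/

set_option autoImplicit false
set_option linter.style.haveILetI false
set_option linter.unusedSectionVars false

namespace H25.Eleven

open H63.Eleven MulAction Finset

universe u v

variable {G : Type u} {Ω : Type v} [Group G] [Finite G] [MulAction G Ω] (A : ACore G Ω)

theorem P_pow_eleven {a : Ω} {p : G} (hp : p ∈ A.P a) : p ^ 11 = 1 := by
  have := pow_card_eq_one' (G := ↥(A.P a)) (x := ⟨p, hp⟩)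
  rw [A.card_P] at this
  exact congrArg Subtype.val this

theorem P_smul_inj {a d : Ω} (had : a ≠ d) {p q : G} (hp : p ∈ A.P a) (hq : q ∈ A.P a)
    (h : p • d = q • d) : p = q := by
  by_contra hne
  refine had (A.P_fix a d (q⁻¹ * p) ((A.P a).mul_mem ((A.P a).inv_mem hq) hp) ?_ ?_).symm
  · intro h1
    exact hne (inv_mul_eq_one.1 h1).symm
  · rw [mul_smul, h, inv_smul_smul]

/-- An element of a two-point centraliser stabilising a second line has eleventh power one. -/
theorem pow_eleven_of_second {a b d : Ω} (hab : a ≠ b) (had : a ≠ d) (hdL : d ∉ A.line a b)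
    {x : G} (hx : x ∈ A.W a) (hxb : x • b = b) (hxd : x • d ∈ A.line a d) : x ^ 11 = 1 := by
  obtain ⟨p, hp, hpd⟩ := A.line_stab a d x had hx hxd
  by_contra h
  apply hdL
  refine (A.V_fix a b (x ^ 11) hab ((A.W a).pow_mem hx 11) ?_ h d).1 ?_
  · exact mem_stabilizer_iff.1 ((stabilizer G b).pow_mem (mem_stabilizer_iff.2 hxb) 11)
  · have hc : Commute x p := comm_P A hx hp
    have he : x ^ 11 = (x * p) ^ 11 := by rw [hc.mul_pow, P_pow_eleven A hp, mul_one]
    rw [he]
    exact mem_stabilizer_iff.1 ((stabilizer G d).pow_mem (mem_stabilizer_iff.2 hpd) 11)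

theorem lineStab_pow {a d : Ω} (had : a ≠ d) {g : G} (hg : LineStab A a d g) (i : ℕ) :
    LineStab A a d (g ^ i) := by
  induction i with
  | zero => exact lineStab_of_fix A had (by simp) (by simp)
  | succ i ih => rw [pow_succ]; exact LineStab.mul A had ih hg

theorem card_compl_line {a b : Ω} (hab : a ≠ b) :
    Nat.card {d : Ω // d ∉ A.line a b} = 11 * (A.u - 1) := by
  classical
  haveI := finite_points A
  haveI := Fintype.ofFinite Ω
  have h := Nat.card_congr (Equiv.sumCompl fun d : Ω => d ∈ A.line a b)
  rw [Nat.card_sum, A.card_points] at h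
  have h12 : Nat.card {d : Ω // d ∈ A.line a b} = 12 := A.line_card a b hab
  have := A.one_lt_u
  rw [h12] at h
  omega

/-- In the even case no nontrivial element of a two-point centraliser stabilises a second line. -/
theorem no_second (hv : Even A.v) (hsmall : A.v ∣ 12 ∨ A.u ≤ 61) (h4 : 4 ∣ A.u - 1)
    (a b c : Ω) (x : G) (hab : a ≠ b) (hac : a ≠ c) (hx : x ∈ A.W a) (hxb : x • b = b)
    (hx1 : x ≠ 1) (hxc : x • c ∈ A.line a c) : c ∈ A.line a b := by
  classical
  haveI := finite_points A
  haveI := Fintype.ofFinite Ω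
  haveI := Fintype.ofFinite G
  haveI : Fact (Nat.Prime 11) := ⟨by norm_num⟩
  haveI : Fact (Nat.Prime 3) := ⟨Nat.prime_three⟩
  by_contra hcL
  set V : Subgroup G := A.W a ⊓ stabilizer G b with hV
  have hVcard : Nat.card ↥V = A.v := A.card_V a b hab
  have hord : orderOf x = 11 := orderOf_eq_prime (pow_eleven_of_second A hab hac hcL hx hxb hxc) hx1
  have h11 : 11 ∣ A.v := by
    rw [← hVcard, ← hord]
    exact Subgroup.orderOf_dvd_natCard _ ⟨hx, hxb⟩
  have hu61 : A.u ≤ 61 := by
    rcases hsmall with h | h
    · exfalso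
      have := h11.trans h
      norm_num at this
    · exact h
  have h22 : 22 ∣ A.v := Nat.Coprime.mul_dvd_of_dvd_of_dvd (by norm_num) (even_iff_two_dvd.1 hv) h11
  have hu20 : 20 ≤ A.u - 1 := by
    have h5 : 5 ∣ A.u - 1 := by
      have := A.u_mod
      omega
    have := Nat.Coprime.mul_dvd_of_dvd_of_dvd (show Nat.Coprime 4 5 by norm_num) h4 h5
    exact Nat.le_of_dvd (by have := A.one_lt_u; omega) this
  obtain ⟨y, hy5, hya, hyb, -, hVy, hyx, -, -⟩ := A.exists_y a b hab
  have hy5' : y ^ 5 = 1 := hy5 ▸ pow_orderOf_eq_one y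
  -- nontrivial elements `y ^ k e` with `k` prime to five
  have key : ∀ (k : ℕ) (e : G) (d : Ω), e ∈ V → d ∉ A.line a b → ¬ 5 ∣ k →
      (y ^ k * e) • d = d → False := by
    intro k e d he hd hk hfix
    obtain ⟨l, hl⟩ : ∃ l : ℕ, (k * l) % 5 = 1 := by
      have hk5 : k % 5 < 5 := Nat.mod_lt _ (by norm_num)
      have : k % 5 ≠ 0 := fun h => hk (Nat.dvd_of_mod_eq_zero h)
      interval_cases hh : k % 5
      · omega
      · exact ⟨1, by rw [Nat.mul_mod, hh]⟩
      · exact ⟨3, by rw [Nat.mul_mod, hh]⟩
      · exact ⟨2, by rw [Nat.mul_mod, hh]⟩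
      · exact ⟨4, by rw [Nat.mul_mod, hh]⟩
    have hc : Commute (y ^ k) e :=
      ((show Commute e y from hVy e he.1 (mem_stabilizer_iff.1 he.2)).symm).pow_left k
    have hpow : (y ^ k * e) ^ l = y * e ^ l := by
      rw [hc.mul_pow, ← pow_mul, ← pow_mod_orderOf, hy5, hl, pow_one]
    have hd' : (y * e ^ l) • d = d := by
      rw [← hpow]
      exact mem_stabilizer_iff.1 ((stabilizer G d).pow_mem (mem_stabilizer_iff.2 hfix) l)
    rcases hyx (e ^ l) ((A.W a).pow_mem he.1 l)
      (mem_stabilizer_iff.1 ((stabilizer G b).pow_mem he.2 l)) d hd' with rfl | rfl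
    · exact hd (A.line_left _ b hab)
    · exact hd (A.line_right a _ hab)
  have hne_a : ∀ {d : Ω}, d ∉ A.line a b → a ≠ d := fun hd h => hd (h ▸ A.line_left a b hab)
  obtain ⟨d₀, hd₀⟩ : ∃ d : Ω, d ∉ A.line a b := ⟨c, hcL⟩
  have hmapL : ∀ (g : G) (d : Ω), g • a = a → g • b = b → d ∉ A.line a b → g • d ∉ A.line a b := by
    intro g d ga gb hd hgd
    apply hd
    have h2 := A.line_smul g a b hab
    rw [ga, gb] at h2
    rw [h2] at hgd
    obtain ⟨d', hd', he⟩ := hgd
    exact MulAction.injective g he ▸ hd'
  have hPL : ∀ {d p : _}, d ∉ A.line a b → p ∈ A.P a → p • d ∉ A.line a b := by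
    intro d p hd hp hpd
    apply hd
    have hls : LineStab A a b p := lineStab_P A hab hp
    have := A.line_smul p a b hab
    rw [fix_left A (A.P_le a hp), hls.2] at this
    rw [this] at hpd
    obtain ⟨d', hd', he⟩ := hpd
    exact MulAction.injective p he ▸ hd'
  have hgab : ∀ (i : ℕ) (e : G), e ∈ V → (y ^ i * e) • a = a ∧ (y ^ i * e) • b = b := by
    intro i e he
    have hyi := And.intro
      (mem_stabilizer_iff.1 ((stabilizer G a).pow_mem (mem_stabilizer_iff.2 hya) i))
      (mem_stabilizer_iff.1 ((stabilizer G b).pow_mem (mem_stabilizer_iff.2 hyb) i))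
    exact ⟨by rw [mul_smul, fix_left A he.1, hyi.1],
      by rw [mul_smul, mem_stabilizer_iff.1 he.2, hyi.2]⟩
  -- bound on `v`
  have hv132 : A.v ≤ 132 := by
    have hinj : Function.Injective (fun q : Fin 5 × ↥V =>
        (⟨(y ^ (q.1 : ℕ) * (q.2 : G)) • d₀,
          hmapL _ d₀ (hgab _ _ q.2.2).1 (hgab _ _ q.2.2).2 hd₀⟩ : {d : Ω // d ∉ A.line a b})) := by
      rintro ⟨i, e⟩ ⟨j, f⟩ h
      have h' : (y ^ (i : ℕ) * (e : G)) • d₀ = (y ^ (j : ℕ) * (f : G)) • d₀ := congrArg Subtype.val h
      have hcf : Commute ((f : G)⁻¹) (y ^ ((i : ℕ) + 5 - (j : ℕ))) :=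
        ((show Commute (f : G) y from hVy f f.2.1 (mem_stabilizer_iff.1 f.2.2)).pow_right _).inv_left
      have hji : (y ^ (j : ℕ))⁻¹ * y ^ (i : ℕ) = y ^ ((i : ℕ) + 5 - (j : ℕ)) := by
        rw [inv_mul_eq_iff_eq_mul, ← pow_add]
        rw [show (j : ℕ) + ((i : ℕ) + 5 - (j : ℕ)) = (i : ℕ) + 5 by omega, pow_add, hy5', mul_one]
      have hfix : (y ^ ((i : ℕ) + 5 - (j : ℕ)) * ((f : G)⁻¹ * e)) • d₀ = d₀ := by
        rw [← mul_assoc, ← hcf.eq, ← hji, ← mul_assoc, ← mul_inv_rev, mul_assoc, mul_smul, h',
          inv_smul_smul]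
      have hij : i = j := by
        by_contra hne
        refine key _ _ d₀ (V.mul_mem (V.inv_mem f.2) e.2) hd₀ ?_ hfix
        intro hdvd
        apply hne
        apply Fin.ext
        omega
      subst hij
      refine Prod.ext rfl (Subtype.ext ?_)
      rw [show (i : ℕ) + 5 - (i : ℕ) = 5 by omega, hy5', one_mul] at hfix
      by_contra hne
      have hm : (f : G)⁻¹ * e ∈ V := V.mul_mem (V.inv_mem f.2) e.2
      exact hd₀ ((A.V_fix a b _ hab hm.1 (mem_stabilizer_iff.1 hm.2)
        (fun h1 => hne (inv_mul_eq_one.1 h1).symm) d₀).1 hfix)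
    have := Nat.card_le_card_of_injective _ hinj
    rw [Nat.card_prod, Nat.card_fin, hVcard, card_compl_line A hab] at this
    omega
  -- every other line is stabilised by some element of order eleven
  have hex : ∀ d : Ω, d ∉ A.line a b → ∃ e ∈ V, e ≠ 1 ∧ LineStab A a d e := by
    intro d hd
    by_contra hno
    push Not at hno
    have hinj : Function.Injective (fun q : Fin 5 × ↥V × ↥(A.P a) =>
        (⟨(y ^ (q.1 : ℕ) * (q.2.1 : G)) • (q.2.2 : G) • d,
          hmapL _ _ (hgab _ _ q.2.1.2).1 (hgab _ _ q.2.1.2).2 (hPL hd q.2.2.2)⟩ :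
          {d : Ω // d ∉ A.line a b})) := by
      rintro ⟨i, e, p⟩ ⟨j, f, q⟩ h
      have h' : (y ^ (i : ℕ) * (e : G)) • (p : G) • d = (y ^ (j : ℕ) * (f : G)) • (q : G) • d :=
        congrArg Subtype.val h
      have had := hne_a hd
      set k := (i : ℕ) + 5 - (j : ℕ) with hk
      have hcf : Commute ((f : G)⁻¹) (y ^ k) :=
        ((show Commute (f : G) y from hVy f f.2.1 (mem_stabilizer_iff.1 f.2.2)).pow_right _).inv_left
      have hji : (y ^ (j : ℕ))⁻¹ * y ^ (i : ℕ) = y ^ k := by
        rw [inv_mul_eq_iff_eq_mul, ← pow_add]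
        rw [show (j : ℕ) + k = (i : ℕ) + 5 by omega, pow_add, hy5', mul_one]
      set g : G := y ^ k * ((f : G)⁻¹ * e) with hg
      have hm : (f : G)⁻¹ * e ∈ V := V.mul_mem (V.inv_mem f.2) e.2
      have hgq : g • (p : G) • d = (q : G) • d := by
        rw [hg, ← mul_assoc, ← hcf.eq, ← hji, ← mul_assoc, ← mul_inv_rev, mul_assoc, mul_smul, h',
          inv_smul_smul]
      have hgs : LineStab A a d g := by
        have hga := (hgab k _ hm).1
        have h1 : LineStab A a d (g * (p : G)) := by
          refine (lineStab_iff A had ?_).2 ?_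
          · rw [mul_smul, fix_left A (A.P_le a p.2), hga]
          · rw [mul_smul, hgq]
            exact A.P_line a d q had q.2
        have := LineStab.mul A had h1 (LineStab.inv A had (lineStab_P A had p.2))
        rwa [mul_assoc, mul_inv_cancel, mul_one] at this
      have hij : i = j := by
        by_contra hne
        have hk5 : ¬ 5 ∣ k := by
          intro hdvd
          apply hne
          apply Fin.ext
          omega
        by_cases hW : g ∈ A.W a
        · -- then `y ^ k` lies in the two-point centraliser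
          have hyk : y ^ k ∈ V := by
            refine ⟨?_, (stabilizer G b).pow_mem (mem_stabilizer_iff.2 hyb) k⟩
            have := (A.W a).mul_mem hW ((A.W a).inv_mem hm.1)
            rwa [hg, mul_assoc, mul_inv_cancel, mul_one] at this
          exact key k ((y ^ k)⁻¹) d (V.inv_mem hyk) hd hk5 (by rw [mul_inv_cancel, one_smul])
        · obtain ⟨d', hd'l, hd'a, hd'f⟩ := A.line_fix a d g had (hgab k _ hm).1 hW
            ((lineStab_iff A had (hgab k _ hm).1).1 hgs)
          refine key k _ d' hm ?_ hk5 hd'f
          intro hd'L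
          apply hd
          have e1 : A.line a d' = A.line a d := (mem_line_iff A had (Ne.symm hd'a)).2 hd'l
          have e2 : A.line a d' = A.line a b := (mem_line_iff A hab (Ne.symm hd'a)).2 hd'L
          rw [← e2, e1]
          exact A.line_right a d had
      subst hij
      have hk5 : k = 5 := by omega
      rw [hg, hk5, hy5', one_mul] at hgs hgq
      have hef : (f : G)⁻¹ * e = 1 := by
        by_contra hne
        exact hno _ hm hne hgs
      rw [hef, one_smul] at hgq
      exact Prod.ext rfl (Prod.ext (Subtype.ext (inv_mul_eq_one.1 hef).symm)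
        (Subtype.ext (P_smul_inj A had p.2 q.2 hgq)))
    have := Nat.card_le_card_of_injective _ hinj
    rw [Nat.card_prod, Nat.card_prod, Nat.card_fin, hVcard, A.card_P, card_compl_line A hab] at this
    have := Nat.le_of_dvd (Nat.pos_of_ne_zero (by
      intro h0
      rw [← hVcard] at h0
      exact absurd h0 Nat.card_pos.ne')) h22
    omega
  -- elements of order eleven
  set E : Finset ↥V := Finset.univ.filter fun e => orderOf e = 11 with hE
  have hNbound : A.u - 1 ≤ E.card := by
    set D : Finset Ω := Finset.univ.filter fun d => d ∉ A.line a b with hD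
    have hDcard : D.card = 11 * (A.u - 1) := by
      rw [hD, ← Fintype.card_subtype, ← Nat.card_eq_fintype_card, card_compl_line A hab]
    have hlow : D.card * 10 ≤ E.card * 110 := by
      refine Finset.card_mul_le_card_mul (fun (d : Ω) (e : ↥V) => LineStab A a d (e : G)) (fun d hd => ?_)
        (fun e he => ?_)
      · rw [hD, Finset.mem_filter] at hd
        have had := hne_a hd.2
        obtain ⟨e, heV, he1, hes⟩ := hex d hd.2
        have he11 : orderOf (⟨e, heV⟩ : ↥V) = 11 := by
          rw [← Subgroup.orderOf_coe]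
          exact orderOf_eq_prime (pow_eleven_of_second A hab had hd.2 heV.1
            (mem_stabilizer_iff.1 heV.2) ((lineStab_iff A had (fix_left A heV.1)).1 hes)) he1
        calc 10 = ((Finset.Icc 1 10).image fun i => (⟨e, heV⟩ : ↥V) ^ i).card := by
              rw [Finset.card_image_of_injOn]
              · rfl
              · intro i hi j hj hij
                simp only [Finset.coe_Icc, Set.mem_Icc] at hi hj
                have h := hij
                simp only at h
                rw [pow_eq_pow_iff_modEq, he11, Nat.ModEq] at h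
                omega
          _ ≤ _ := by
              refine Finset.card_le_card ?_
              intro f hf
              rw [Finset.mem_image] at hf
              obtain ⟨i, hi, rfl⟩ := hf
              rw [Finset.mem_Icc] at hi
              refine (Finset.mem_bipartiteAbove _).2 ⟨?_, ?_⟩
              · rw [hE, Finset.mem_filter]
                refine ⟨Finset.mem_univ _, ?_⟩
                rw [Nat.Coprime.orderOf_pow, he11]
                rw [he11]
                exact (Nat.Prime.coprime_iff_not_dvd (by norm_num)).2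
                  (fun hdvd => by have := Nat.le_of_dvd (by omega) hdvd; omega)
              · exact lineStab_pow A had hes i
      · rw [hE, Finset.mem_filter] at he
        have he1 : (e : G) ≠ 1 := by
          intro h
          have h1 : e = 1 := Subtype.ext h
          rw [h1, orderOf_one] at he
          exact absurd he.2 (by norm_num)
        haveI := Fintype.ofFinite ↥(A.P a)
        calc _ ≤ (((Finset.univ : Finset ↥(A.P a)).erase 1).biUnion fun p : ↥(A.P a) =>
              (Finset.univ.filter fun d : Ω => ((e : G) * (p : G)) • d = d).erase a).card := by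
              refine Finset.card_le_card ?_
              intro d hd
              rw [Finset.mem_bipartiteBelow, hD, Finset.mem_filter] at hd
              have had := hne_a hd.1.2
              obtain ⟨p, hp, hpd⟩ := A.line_stab a d e had e.2.1
                ((lineStab_iff A had (fix_left A e.2.1)).1 hd.2)
              rw [Finset.mem_biUnion]
              refine ⟨⟨p, hp⟩, Finset.mem_erase.2 ⟨?_, Finset.mem_univ _⟩,
                Finset.mem_erase.2 ⟨had.symm, Finset.mem_filter.2 ⟨Finset.mem_univ _, hpd⟩⟩⟩
              intro hp1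
              have hp1' : p = 1 := congrArg Subtype.val hp1
              rw [hp1', mul_one] at hpd
              exact hd.1.2 ((A.V_fix a b e hab e.2.1 (mem_stabilizer_iff.1 e.2.2) he1 d).1 hpd)
          _ ≤ ((Finset.univ : Finset ↥(A.P a)).erase 1).card * 11 := by
              refine Finset.card_biUnion_le_card_mul _ _ _ fun p _ => ?_
              by_cases hne : ((Finset.univ.filter fun d : Ω => ((e : G) * (p : G)) • d = d).erase a) = ∅
              · rw [hne]; simp
              · obtain ⟨d, hd⟩ := Finset.nonempty_iff_ne_empty.2 hne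
                rw [Finset.mem_erase, Finset.mem_filter] at hd
                have hW : (e : G) * p ∈ A.W a := (A.W a).mul_mem e.2.1 (A.P_le a p.2)
                have h1 : (e : G) * p ≠ 1 := by
                  intro h
                  have heP : (e : G) ∈ A.P a := by
                    rw [mul_eq_one_iff_eq_inv] at h
                    rw [h]
                    exact (A.P a).inv_mem p.2
                  exact hab (A.P_fix a b e heP he1 (mem_stabilizer_iff.1 e.2.2)).symm
                calc _ ≤ ((Finset.univ.filter fun d' : Ω => d' ∈ A.line a d).erase a).card := by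
                      refine Finset.card_le_card (Finset.erase_subset_erase a ?_)
                      intro d' hd'
                      rw [Finset.mem_filter] at hd' ⊢
                      exact ⟨Finset.mem_univ _,
                        (A.V_fix a d _ (Ne.symm hd.1) hW hd.2.2 h1 d').1 hd'.2⟩
                  _ = 11 := by
                      rw [Finset.card_erase_of_mem
                        (Finset.mem_filter.2 ⟨Finset.mem_univ _, A.line_left a d (Ne.symm hd.1)⟩),
                        ← Fintype.card_subtype, ← Nat.card_eq_fintype_card,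
                        show Nat.card {d' : Ω // d' ∈ A.line a d} = 12 from
                          A.line_card a d (Ne.symm hd.1)]
          _ = 110 := by
              rw [Finset.card_erase_of_mem (Finset.mem_univ _), Finset.card_univ,
                ← Nat.card_eq_fintype_card, A.card_P]
    rw [hDcard] at hlow
    omega
  -- Sylow subgroups
  have hsyl : ∀ S : Sylow 11 ↥V, Nat.card ↥(S : Subgroup ↥V) = 11 := by
    intro S
    obtain ⟨n, hn⟩ := IsPGroup.iff_card.1 S.isPGroup'
    have hd : 11 ^ n ∣ A.v := by
      rw [← hn, ← hVcard]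
      exact Subgroup.card_subgroup_dvd_card _
    have h11S : 11 ∣ Nat.card ↥(S : Subgroup ↥V) := by
      exact S.dvd_card_of_dvd_card (hVcard.symm ▸ h11)
    rcases Nat.lt_trichotomy n 1 with h | h | h
    · obtain rfl : n = 0 := by omega
      rw [hn] at h11S
      norm_num at h11S
    · rw [hn, h, pow_one]
    · exfalso
      have h121 : 121 ∣ A.v := (show (121 : ℕ) ∣ 11 ^ n from
        (by norm_num : (121 : ℕ) = 11 ^ 2) ▸ pow_dvd_pow 11 h).trans hd
      have := Nat.Coprime.mul_dvd_of_dvd_of_dvd (show Nat.Coprime 2 121 by norm_num)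
        (even_iff_two_dvd.1 hv) h121
      have := Nat.le_of_dvd (by rw [← hVcard]; exact Nat.card_pos) this
      omega
  haveI : Fintype (Sylow 11 ↥V) := Fintype.ofFinite _
  set n := Nat.card (Sylow 11 ↥V) with hn
  have hn1 : n ≠ 1 := by
    intro h1
    obtain ⟨hsub, ⟨S⟩⟩ := Nat.card_eq_one_iff_unique.1 h1
    have hle : E.card ≤ ((Finset.univ.filter fun e : ↥V => e ∈ (S : Subgroup ↥V)).erase 1).card := by
      refine Finset.card_le_card ?_
      intro e he
      rw [hE, Finset.mem_filter] at he
      have hp : IsPGroup 11 ↥(Subgroup.zpowers e) :=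
        IsPGroup.of_card (n := 1) (by rw [Nat.card_zpowers, he.2, pow_one])
      obtain ⟨S', hS'⟩ := hp.exists_le_sylow
      rw [Subsingleton.elim S' S] at hS'
      refine Finset.mem_erase.2 ⟨?_, Finset.mem_filter.2
        ⟨Finset.mem_univ _, hS' (Subgroup.mem_zpowers e)⟩⟩
      rintro rfl
      simp at he
    have h11' : (Finset.univ.filter fun e : ↥V => e ∈ (S : Subgroup ↥V)).card = 11 := by
      rw [← Fintype.card_subtype, ← Nat.card_eq_fintype_card]
      exact hsyl S
    rw [Finset.card_erase_of_mem (Finset.mem_filter.2 ⟨Finset.mem_univ _, one_mem _⟩), h11'] at hle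
    omega
  obtain ⟨S₀⟩ : Nonempty (Sylow 11 ↥V) := inferInstance
  have hmod : n % 11 = 1 := card_sylow_modEq_one 11 ↥V
  have hn12 : 12 ≤ n := by omega
  have hv132' : A.v = 132 ∧ n = 12 := by
    have h1 := S₀.card_dvd_index
    have h2 := Subgroup.card_mul_index (S₀ : Subgroup ↥V)
    rw [hsyl S₀, hVcard] at h2
    have := Nat.le_of_dvd (Nat.pos_of_ne_zero (Subgroup.index_ne_zero_of_finite)) h1
    omega
  -- at least 120 elements of order eleven
  have hE120 : 120 ≤ E.card := by
    have hmem : ∀ q : Σ S : Sylow 11 ↥V, {e : ↥(S : Subgroup ↥V) // e ≠ 1},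
        orderOf ((q.2.1 : ↥V)) = 11 := by
      rintro ⟨S, e, he⟩
      rw [Subgroup.orderOf_coe]
      have hd := orderOf_dvd_natCard e
      rw [hsyl S, Nat.dvd_prime (by norm_num)] at hd
      exact hd.resolve_left fun h => he (orderOf_eq_one_iff.1 h)
    have hcard : Nat.card {e : ↥V // orderOf e = 11} = E.card := by
      rw [hE, ← Fintype.card_subtype, Nat.card_eq_fintype_card]
    rw [← hcard]
    calc 120 = Nat.card (Σ S : Sylow 11 ↥V, {e : ↥(S : Subgroup ↥V) // e ≠ 1}) := by
          rw [Nat.card_sigma, Finset.sum_const_nat (m := 10), Finset.card_univ,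
            ← Nat.card_eq_fintype_card, ← hn, hv132'.2]
          intro S _
          haveI := Fintype.ofFinite ↥(S : Subgroup ↥V)
          rw [Nat.card_eq_fintype_card, Fintype.card_subtype_compl, Fintype.card_subtype_eq,
            ← Nat.card_eq_fintype_card, hsyl S]
      _ ≤ _ := by
          refine Nat.card_le_card_of_injective (fun q => ⟨(q.2.1 : ↥V), hmem q⟩) ?_
          rintro ⟨S, e, he⟩ ⟨T, f, hf⟩ h
          have h' : (e : ↥V) = f := congrArg Subtype.val h
          have hgen : ∀ (R : Sylow 11 ↥V) (r : ↥(R : Subgroup ↥V)), r ≠ 1 →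
              Subgroup.zpowers (r : ↥V) = (R : Subgroup ↥V) := by
            intro R r hr
            apply Subgroup.eq_of_le_of_card_ge (Subgroup.zpowers_le.2 r.2)
            rw [hsyl R, Nat.card_zpowers, hmem ⟨R, r, hr⟩]
          obtain rfl : S = T := Sylow.ext (by rw [← hgen S e he, ← hgen T f hf, h'])
          obtain rfl : e = f := Subtype.ext h'
          rfl
  -- an element of order eleven fixes no involution
  have hNS : Nat.card ↥(Subgroup.normalizer ((S₀ : Subgroup ↥V) : Set ↥V)) = 11 := by
    have h2 := Subgroup.card_mul_index (Subgroup.normalizer ((S₀ : Subgroup ↥V) : Set ↥V))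
    rw [show (Subgroup.normalizer ((S₀ : Subgroup ↥V) : Set ↥V)).index = n from
      (Sylow.card_eq_index_normalizer S₀).symm, hv132'.2, hVcard, hv132'.1] at h2
    omega
  set I : Finset ↥V := Finset.univ.filter fun e => orderOf e = 2 with hI
  have hI11 : 11 ≤ I.card := by
    have hodd : Odd I.card := by
      have h := odd_invs A hab hv
      rwa [show Nat.card (invs A a b) = I.card from ?_] at h
      rw [hI, ← Fintype.card_subtype, ← Nat.card_eq_fintype_card]
      exact Nat.card_congr
        { toFun := fun x => ⟨⟨x.1, x.2.1, mem_stabilizer_iff.2 x.2.2.1⟩,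
            by rw [← Subgroup.orderOf_coe]; exact x.2.2.2⟩
          invFun := fun x => ⟨x.1.1, x.1.2.1, mem_stabilizer_iff.1 x.1.2.2,
            by rw [Subgroup.orderOf_coe]; exact x.2⟩
          left_inv := fun x => rfl
          right_inv := fun x => rfl }
    let T : SubMulAction (ConjAct ↥V) ↥V :=
      { carrier := {e | orderOf e = 2}
        smul_mem' := fun g e he => by
          show orderOf (g • e) = 2
          rw [ConjAct.smul_def]
          exact (orderOf_injective (MulAut.conj (ConjAct.ofConjAct g)).toMonoidHom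
            (MulAut.conj (ConjAct.ofConjAct g)).injective e).trans he }
    set Sc : Subgroup (ConjAct ↥V) :=
      (S₀ : Subgroup ↥V).map (ConjAct.toConjAct (G := ↥V)).toMonoidHom with hSc
    have hp : IsPGroup 11 ↥Sc := S₀.isPGroup'.map _
    have hfp := hp.card_modEq_card_fixedPoints (α := ↥T)
    have hempty : Nat.card
        (fixedPoints ↥Sc ↥T) = 0 := by
      rw [Nat.card_eq_zero]
      left
      constructor
      rintro ⟨⟨e, he⟩, hfix⟩
      have he2 : orderOf e = 2 := he
      have hnorm : e ∈ Subgroup.normalizer ((S₀ : Subgroup ↥V) : Set ↥V) := by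
        have hcomm : ∀ r ∈ (S₀ : Subgroup ↥V), r * e = e * r := by
          intro r hr
          have := congrArg Subtype.val (hfix ⟨ConjAct.toConjAct r, r, hr, rfl⟩)
          have h' : r * e * r⁻¹ = e := this
          exact mul_inv_eq_iff_eq_mul.1 h'
        rw [Subgroup.mem_normalizer_iff]
        intro r
        refine ⟨fun hr => ?_, fun hr => ?_⟩
        · rw [← hcomm r hr, mul_inv_cancel_right]
          exact hr
        · have h := hcomm _ hr
          have h2 : e * r = e * (e * r * e⁻¹) := by
            rw [← h, inv_mul_cancel_right]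
          rw [mul_left_cancel h2]
          exact hr
      have hd := Subgroup.orderOf_dvd_natCard _ hnorm
      rw [hNS, he2] at hd
      norm_num at hd
    rw [hempty] at hfp
    have hcard : Nat.card ↥T = I.card := by
      rw [hI, ← Fintype.card_subtype, ← Nat.card_eq_fintype_card]
      exact Nat.card_congr (Equiv.subtypeEquivRight fun e => Iff.rfl)
    rw [hcard] at hfp
    rw [Nat.odd_iff] at hodd
    unfold Nat.ModEq at hfp
    omega
  obtain ⟨g₃, hg₃⟩ := exists_prime_orderOf_dvd_card' 3 (G := ↥V) (by rw [hVcard, hv132'.1]; norm_num)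
  have h3 : ({1, g₃} : Finset ↥V).card = 2 := Finset.card_pair (by
    rintro rfl
    simp at hg₃)
  have hsum : (E ∪ I ∪ ({1, g₃} : Finset ↥V)).card = E.card + I.card + 2 := by
    rw [Finset.card_union_of_disjoint, Finset.card_union_of_disjoint, h3]
    · rw [Finset.disjoint_left]
      intro e he hi
      rw [hE, Finset.mem_filter] at he
      rw [hI, Finset.mem_filter] at hi
      omega
    · rw [Finset.disjoint_left]
      intro e he hi
      rw [Finset.mem_union, hE, hI, Finset.mem_filter, Finset.mem_filter] at he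
      rw [Finset.mem_insert, Finset.mem_singleton] at hi
      rcases hi with rfl | rfl
      · rcases he with h | h <;> simp at h
      · rcases he with h | h <;> rw [hg₃] at h <;> simp at h
  have := Finset.card_le_univ (E ∪ I ∪ ({1, g₃} : Finset ↥V))
  rw [hsum, ← Nat.card_eq_fintype_card, hVcard] at this
  omega

/-- A single involution in every two-point centraliser. -/
theorem card_invs_one (hv : Even A.v)
    (hns : ∀ (a b c : Ω) (x : G), a ≠ b → a ≠ c → x ∈ A.W a → x • b = b → x ≠ 1 →
      x • c ∈ A.line a c → c ∈ A.line a b) {a b : Ω} (hab : a ≠ b) :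
    Nat.card (invs A a b) = 1 := by
  classical
  haveI := finite_points A
  haveI := Fintype.ofFinite Ω
  haveI := Fintype.ofFinite G
  set m := Nat.card (invs A a b) with hm
  have hne : ∀ {c : Ω}, c ≠ a ↔ a ≠ c := fun {c} => ⟨Ne.symm, Ne.symm⟩
  -- elements of `W a` with a second fixed point
  set F : Finset G := Finset.univ.filter fun g => g ∈ A.W a ∧ g ≠ 1 ∧ ∃ c, a ≠ c ∧ g • c = c with hF
  set Q : Finset Ω := Finset.univ.erase a with hQ
  have hQcard : Q.card = 11 * A.u := by
    rw [hQ, Finset.card_erase_of_mem (Finset.mem_univ _), Finset.card_univ,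
      ← Nat.card_eq_fintype_card, A.card_points, Nat.add_sub_cancel]
  have hfix11 : ∀ g : G, g ∈ A.W a → g ≠ 1 → ∀ c, a ≠ c → g • c = c →
      (Q.filter fun d => g • d = d).card = 11 := by
    intro g hg hg1 c hac hgc
    have : (Q.filter fun d => g • d = d) = (Finset.univ.filter fun d => d ∈ A.line a c).erase a := by
      ext d
      simp only [hQ, Finset.mem_filter, Finset.mem_erase, Finset.mem_univ, true_and, and_true,
        A.V_fix a c g hac hg hgc hg1 d]
    rw [this, Finset.card_erase_of_mem
      (Finset.mem_filter.2 ⟨Finset.mem_univ _, A.line_left a c hac⟩), ← Fintype.card_subtype,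
      ← Nat.card_eq_fintype_card,
      show Nat.card {d : Ω // d ∈ A.line a c} = 12 from A.line_card a c hac]
  have hFcard : 11 * A.u * (A.v - 1) = F.card * 11 := by
    rw [← hQcard]
    have key := Finset.sum_card_bipartiteAbove_eq_sum_card_bipartiteBelow
      (s := Q) (t := F) (fun c g => g • c = c)
    rw [Finset.sum_const_nat (m := A.v - 1), Finset.sum_const_nat (m := 11)] at key
    · exact key
    · intro g hg
      rw [hF, Finset.mem_filter] at hg
      obtain ⟨-, hgW, hg1, c, hac, hgc⟩ := hg
      exact hfix11 g hgW hg1 c hac hgc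
    · intro c hc
      rw [hQ, Finset.mem_erase] at hc
      have : F.bipartiteAbove (fun c g => g • c = c) c =
          (Finset.univ.filter fun g => g ∈ A.W a ⊓ stabilizer G c).erase 1 := by
        ext g
        simp only [Finset.mem_bipartiteAbove, hF, Finset.mem_filter, Finset.mem_univ, true_and,
          Finset.mem_erase, Subgroup.mem_inf, mem_stabilizer_iff]
        constructor
        · rintro ⟨⟨h1, h2, -⟩, h3⟩
          exact ⟨h2, h1, h3⟩
        · rintro ⟨h2, h1, h3⟩
          exact ⟨⟨h1, h2, c, hne.1 hc.1, h3⟩, h3⟩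
      rw [this, Finset.card_erase_of_mem (by simp), ← Fintype.card_subtype,
        ← Nat.card_eq_fintype_card]
      rw [show Nat.card {g : G // g ∈ A.W a ⊓ stabilizer G c} = A.v from A.card_V a c (hne.1 hc.1)]
  -- involutions off the line of `a`, `b`
  set Q' : Finset Ω := Finset.univ.filter fun d => d ∉ A.line a b with hQ'
  set Z : Finset G :=
    Finset.univ.filter fun g => g ∈ A.W a ∧ orderOf g = 2 ∧ ∃ c, c ∉ A.line a b ∧ g • c = c with hZ
  have hQ'card : Q'.card = 11 * (A.u - 1) := by
    rw [hQ', ← Fintype.card_subtype, ← Nat.card_eq_fintype_card, card_compl_line A hab]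
  have hne' : ∀ {d : Ω}, d ∉ A.line a b → a ≠ d := fun hd h => hd (h ▸ A.line_left a b hab)
  have hZcard : 11 * (A.u - 1) * m = Z.card * 11 := by
    rw [← hQ'card]
    have key := Finset.sum_card_bipartiteAbove_eq_sum_card_bipartiteBelow
      (s := Q') (t := Z) (fun c g => g • c = c)
    rw [Finset.sum_const_nat (m := m), Finset.sum_const_nat (m := 11)] at key
    · exact key
    · intro g hg
      rw [hZ, Finset.mem_filter] at hg
      obtain ⟨-, hgW, hg2, c, hcL, hgc⟩ := hg
      have hac := hne' hcL
      rw [← hfix11 g hgW (orderOf_two hg2).2 c hac hgc]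
      apply congrArg Finset.card
      ext d
      simp only [Finset.mem_bipartiteBelow, hQ', hQ, Finset.mem_filter, Finset.mem_erase,
        Finset.mem_univ, true_and, and_true]
      refine ⟨fun h => ⟨(hne' h.1).symm, h.2⟩, fun h => ⟨fun hdL => hcL ?_, h.2⟩⟩
      have hdc := (A.V_fix a c g hac hgW hgc (orderOf_two hg2).2 d).1 h.2
      have e1 : A.line a d = A.line a c := (mem_line_iff A hac (hne.1 h.1)).2 hdc
      have e2 : A.line a d = A.line a b := (mem_line_iff A hab (hne.1 h.1)).2 hdL
      rw [← e2, e1]
      exact A.line_right a c hac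
    · intro c hc
      rw [hQ', Finset.mem_filter] at hc
      rw [hm, card_invs_eq A hab (hne' hc.2), Nat.card_eq_fintype_card, Fintype.card_subtype]
      apply congrArg Finset.card
      ext g
      rw [Finset.mem_bipartiteAbove, hZ, Finset.mem_filter, Finset.mem_filter]
      constructor
      · rintro ⟨⟨-, h1, h3, -⟩, h4⟩
        exact ⟨Finset.mem_univ _, h1, h4, h3⟩
      · rintro ⟨-, h1, h4, h3⟩
        exact ⟨⟨Finset.mem_univ _, h1, h3, c, hc.2, h4⟩, h4⟩
  -- three disjoint parts of `W a`
  haveI : Fact (Nat.Prime 2) := ⟨Nat.prime_two⟩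
  obtain ⟨z, hz⟩ := exists_prime_orderOf_dvd_card' 2
    (G := ↥(A.W a ⊓ stabilizer G b : Subgroup G))
    (by rw [A.card_V a b hab]; exact even_iff_two_dvd.1 hv)
  have hzb : (z : G) • b = b := mem_stabilizer_iff.1 z.2.2
  have hz2 : orderOf (z : G) = 2 := by rw [Subgroup.orderOf_coe, hz]
  obtain ⟨hzz, hz1⟩ := orderOf_two hz2
  set N₀ : Finset G :=
    Finset.univ.filter fun g => g ∈ A.W a ∧ ∀ c, a ≠ c → g • c ∉ A.line a c with hN₀
  set PF : Finset G := (F ×ˢ (Finset.univ.filter fun p => p ∈ A.P a)).image fun q => q.1 * q.2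
    with hPF
  set PP : Finset G := Finset.univ.filter fun p => p ∈ A.P a with hPP
  have hPPcard : PP.card = 11 := by
    rw [hPP, ← Fintype.card_subtype, ← Nat.card_eq_fintype_card,
      show Nat.card {p : G // p ∈ A.P a} = 11 from A.card_P a]
  have hPFcard : PF.card = F.card * 11 := by
    rw [hPF, Finset.card_image_of_injOn, Finset.card_product, hPPcard]
    intro q hq q' hq' h
    simp only [Finset.coe_product, Set.mem_prod, hF, Finset.coe_filter, hPP,
      Finset.mem_univ, true_and, Set.mem_ofPred_eq] at hq hq'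
    obtain ⟨⟨hW, h1, c, hac, hc⟩, hp⟩ := hq
    obtain ⟨⟨hW', h1', c', hac', hc'⟩, hp'⟩ := hq'
    have h : q.1 * q.2 = q'.1 * q'.2 := h
    have he : q'.1 = q.1 * (q.2 * q'.2⁻¹) := by rw [← mul_assoc, h, mul_inv_cancel_right]
    have hr : q.2 * q'.2⁻¹ ∈ A.P a := (A.P a).mul_mem hp ((A.P a).inv_mem hp')
    have hls : q'.1 • c ∈ A.line a c := by
      refine (lineStab_iff A hac (fix_left A hW')).1 ?_
      rw [he]
      exact LineStab.mul A hac (lineStab_of_fix A hac (fix_left A hW) hc) (lineStab_P A hac hr)
    have hcl := hns a c' c q'.1 hac' hac hW' hc' h1' hls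
    have hfix : q'.1 • c = c := (A.V_fix a c' q'.1 hac' hW' hc' h1' c).2 hcl
    have hrc : (q.2 * q'.2⁻¹) • c = c := by
      apply MulAction.injective q.1
      show q.1 • _ = q.1 • c
      rw [← mul_smul, ← he, hfix, hc]
    have hr1 : q.2 * q'.2⁻¹ = 1 := by
      by_contra hne1
      exact hac (A.P_fix a c _ hr hne1 hrc).symm
    exact Prod.ext (by rw [he, hr1, mul_one]) (mul_inv_eq_one.1 hr1)
  have hNle : N₀.card + 11 + F.card * 11 ≤ 11 * A.u * A.v := by
    have hsub : N₀ ∪ PP ∪ PF ⊆ Finset.univ.filter fun g => g ∈ A.W a := by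
      intro g hg
      simp only [Finset.mem_union, hN₀, hPP, hPF, hF, Finset.mem_filter, Finset.mem_univ, true_and,
        Finset.mem_image, Finset.mem_product] at hg
      refine Finset.mem_filter.2 ⟨Finset.mem_univ _, ?_⟩
      rcases hg with (h | h) | ⟨q, ⟨hq, hp⟩, rfl⟩
      · exact h.1
      · exact A.P_le a h
      · exact (A.W a).mul_mem hq.1 (A.P_le a hp)
    have h := Finset.card_le_card hsub
    rw [← Fintype.card_subtype, ← Nat.card_eq_fintype_card,
      show Nat.card {g : G // g ∈ A.W a} = 11 * A.u * A.v from A.card_W a,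
      Finset.card_union_of_disjoint, Finset.card_union_of_disjoint, hPPcard, hPFcard] at h
    · exact h
    · rw [Finset.disjoint_left]
      intro g h1 h2
      rw [hN₀, Finset.mem_filter] at h1
      rw [hPP, Finset.mem_filter] at h2
      exact h1.2.2 b hab (A.P_line a b g hab h2.2)
    · rw [Finset.disjoint_left]
      intro g h1 h2
      simp only [hPF, hF, hPP, Finset.mem_image, Finset.mem_product, Finset.mem_filter, Finset.mem_univ,
        true_and] at h2
      obtain ⟨q, ⟨⟨hW, hq1, c, hac, hc⟩, hp⟩, rfl⟩ := h2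
      simp only [Finset.mem_union, hN₀, hPP, Finset.mem_filter, Finset.mem_univ, true_and] at h1
      rcases h1 with h1 | h1
      · refine h1.2 c hac ((lineStab_iff A hac (fix_left A h1.1)).1 ?_)
        exact LineStab.mul A hac (lineStab_of_fix A hac (fix_left A hW) hc) (lineStab_P A hac hp)
      · have hqP : q.1 ∈ A.P a := by
          have := (A.P a).mul_mem h1 ((A.P a).inv_mem hp)
          rwa [mul_inv_cancel_right] at this
        exact hac (A.P_fix a c _ hqP hq1 hc).symm
  -- `z' p ↦ z z' p` lands among the elements stabilising no line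
  have hmap : Z.card * 11 ≤ N₀.card := by
    rw [← hPPcard, ← Finset.card_product]
    refine Finset.card_le_card_of_injOn (fun q => (z : G) * q.1 * q.2) ?_ ?_
    · intro q hq
      simp only [Finset.coe_product, Set.mem_prod, hZ, hPP, Finset.coe_filter, Finset.mem_univ,
        true_and, Set.mem_ofPred_eq] at hq
      obtain ⟨⟨hW, h2, c, hcL, hc⟩, hp⟩ := hq
      obtain ⟨hz'z, -⟩ := orderOf_two h2
      have hgW : (z : G) * q.1 * q.2 ∈ A.W a :=
        (A.W a).mul_mem ((A.W a).mul_mem z.2.1 hW) (A.P_le a hp)
      refine Finset.mem_coe.2 (Finset.mem_filter.2 ⟨Finset.mem_univ _, hgW, fun d had hd => ?_⟩)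
      have hga := fix_left A hgW
      have hs : LineStab A a d ((z : G) * q.1 * q.2) := (lineStab_iff A had hga).2 hd
      have hs0 : LineStab A a d ((z : G) * q.1) := by
        have := LineStab.mul A had hs (LineStab.inv A had (lineStab_P A had hp))
        rwa [mul_inv_cancel_right] at this
      have hza : (z : G) • a = a := fix_left A z.2.1
      have hzd : a ≠ (z : G) • d := ne_smul had hza
      have hs' : LineStab A a ((z : G) • d) ((z : G) * q.1) := by
        have hi := LineStab.inv A had hs0
        have e : ((z : G) * q.1)⁻¹ = q.1 * z := by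
          rw [mul_inv_rev, inv_eq_of_mul_eq_one_left hz'z, inv_eq_of_mul_eq_one_left hzz]
        rw [e] at hi
        refine ⟨by rw [mul_smul, fix_left A hW, hza], ?_⟩
        have h1 := A.line_smul (z : G) a ((q.1 * (z : G)) • d) (ne_smul had hi.1)
        have h2' := A.line_smul (z : G) a d had
        rw [hza] at h1 h2'
        rw [hi.2] at h1
        rw [mul_smul, ← mul_smul q.1, h1, ← h2']
      obtain ⟨r, hr, hrd⟩ := A.line_stab a d _ had ((A.W a).mul_mem z.2.1 hW)
        ((lineStab_iff A had hs0.1).1 hs0)
      by_cases hline : (z : G) • d ∈ A.line a d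
      · have hzfix := invol_fix_line A had z.2.1 hzz hline
        have hdL : d ∈ A.line a b := (A.V_fix a b z hab z.2.1 hzb hz1 d).1 hzfix
        have hdb : A.line a d = A.line a b := (mem_line_iff A hab had).2 hdL
        have hsz : LineStab A a b (z : G) := lineStab_of_fix A hab hza hzb
        have hsb : LineStab A a b ((z : G) * q.1) := by
          refine ⟨hs0.1, ?_⟩
          have h1 := A.line_smul ((z : G) * q.1) a d had
          have h2' := A.line_smul ((z : G) * q.1) a b hab
          rw [hdb] at h1
          rw [hs0.1] at h1 h2'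
          rw [h2', ← h1, hs0.2, hdb]
        have hq : LineStab A a b q.1 := by
          have := LineStab.mul A hab (LineStab.inv A hab hsz) hsb
          rwa [inv_mul_cancel_left] at this
        have hqb := invol_fix_line A hab hW hz'z ((lineStab_iff A hab (fix_left A hW)).1 hq)
        exact hcL ((A.V_fix a b q.1 hab hW hqb (orderOf_two h2).2 c).1 hc)
      · have hr1 : (z : G) * q.1 * r = 1 := by
          by_contra hne1
          refine hline (hns a d ((z : G) • d) _ had hzd
            ((A.W a).mul_mem ((A.W a).mul_mem z.2.1 hW) (A.P_le a hr)) hrd hne1 ?_)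
          exact (lineStab_iff A hzd (by rw [mul_smul, fix_left A (A.P_le a hr), hs0.1])).1
            (LineStab.mul A hzd hs' (lineStab_P A hzd hr))
        have hq1 : q.1 = (z : G) * r⁻¹ := by
          rw [mul_eq_one_iff_eq_inv] at hr1
          rw [← hr1, ← mul_assoc, hzz, one_mul]
        have hrr : r⁻¹ = 1 := by
          refine P_sq_eq_one A hab ((A.P a).inv_mem hr) ?_
          have e : (z : G) * r⁻¹ * ((z : G) * r⁻¹) = r⁻¹ * r⁻¹ := by
            calc (z : G) * r⁻¹ * ((z : G) * r⁻¹) = (z : G) * (r⁻¹ * z) * r⁻¹ := by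
                  simp only [mul_assoc]
              _ = r⁻¹ * r⁻¹ := by
                rw [← comm_P A z.2.1 ((A.P a).inv_mem hr), ← mul_assoc (z : G) z, hzz, one_mul]
          rw [← e, ← hq1, hz'z, one_smul]
        rw [hrr, mul_one] at hq1
        rw [hq1] at hc
        exact hcL ((A.V_fix a b z hab z.2.1 hzb hz1 c).1 hc)
    · intro q hq q' hq' h
      simp only [Finset.coe_product, Set.mem_prod, hZ, hPP, Finset.coe_filter, Finset.mem_univ,
        true_and, Set.mem_ofPred_eq] at hq hq'
      have h : (z : G) * q.1 * q.2 = (z : G) * q'.1 * q'.2 := h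
      have h' : q.1 * q.2 = q'.1 * q'.2 := by
        rw [mul_assoc, mul_assoc] at h
        exact mul_left_cancel h
      have hsq : ∀ {g p : G}, g ∈ A.W a → g * g = 1 → p ∈ A.P a → g * p * (g * p) = p * p := by
        intro g p hg hgg hp
        calc g * p * (g * p) = g * (p * g) * p := by simp only [mul_assoc]
          _ = p * p := by rw [← comm_P A hg hp, ← mul_assoc g g, hgg, one_mul]
      have e := hsq hq.1.1 (orderOf_two hq.1.2.1).1 hq.2
      rw [h', hsq hq'.1.1 (orderOf_two hq'.1.2.1).1 hq'.2] at e
      have hp : q.2 = q'.2 := by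
        have h1 : q.2 = (q.2 * q.2) ^ 6 := by
          rw [← sq, ← pow_mul, show 2 * 6 = 11 + 1 from rfl, pow_succ, P_pow_eleven A hq.2, one_mul]
        have h2 : q'.2 = (q'.2 * q'.2) ^ 6 := by
          rw [← sq, ← pow_mul, show 2 * 6 = 11 + 1 from rfl, pow_succ, P_pow_eleven A hq'.2, one_mul]
        rw [h1, h2, e]
      rw [hp] at h'
      exact Prod.ext (mul_right_cancel h') hp
  -- conclusion
  obtain ⟨j, hj⟩ := odd_invs A hab hv
  rw [← hm] at hj
  have hu := A.one_lt_u
  have hv1 : 1 ≤ A.v := by
    rw [← A.card_V a b hab]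
    exact Nat.card_pos
  obtain ⟨v', hv'⟩ := Nat.exists_eq_add_of_le hv1
  obtain ⟨u', hu'⟩ := Nat.exists_eq_add_of_le (le_of_lt hu)
  rw [hv', hu'] at hFcard hNle
  rw [hu'] at hZcard
  simp only [Nat.add_sub_cancel_left] at hFcard hZcard
  have h1 : Z.card * 11 + 11 ≤ 11 * (1 + u') := by nlinarith [hFcard, hNle, hmap]
  rw [← hZcard] at h1
  rcases Nat.eq_zero_or_pos j with rfl | hjpos
  · omega
  · exfalso
    have hu'pos : 0 < u' := by omega
    nlinarith [Nat.mul_le_mul_left (11 * u') (show 3 ≤ m by omega)]

end H25.Eleven
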