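import Cfsg.Agent.H25.Eleven.Second

/-!
Case A of S3403 with sixty-one lines through a point: fixed points of an inverting involution.
-/

set_option autoImplicit false
set_option linter.style.haveILetI false
set_option linter.unusedSectionVars false

namespace H25.Eleven

open H63.Eleven MulAction

universe u v

variable {G : Type u} {Ω : Type v} [Group G] [Finite G] [MulAction G Ω] (A : ACore G Ω)

theorem fix_card_of_not_mem_W (hu : A.u = 61) (hv : A.v ∣ 12) {c d : Ω} (hdc : d ≠ c) {t : G}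
    (htc : t • c = c) (htd : t • d = d) (htW : t ∉ A.W c) :
    Nat.card {e : Ω // t • e = e} = 2 ∨ Nat.card {e : Ω // t • e = e} = 62 := by
  classical
  haveI := finite_points A
  haveI := Fintype.ofFinite Ω
  haveI : Fact (Nat.Prime 61) := ⟨by norm_num⟩
  have hWcard : Nat.card ↥(A.W c) = 671 * A.v := by rw [A.card_W, hu]
  have hv12 : A.v ≤ 12 := Nat.le_of_dvd (by norm_num) hv
  have hvpos : 0 < A.v := Nat.pos_of_dvd_of_pos hv (by norm_num)
  haveI : Fintype (Sylow 61 ↥(A.W c)) := Fintype.ofFinite _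
  obtain ⟨R⟩ : Nonempty (Sylow 61 ↥(A.W c)) := inferInstance
  have hR : Nat.card ↥(R : Subgroup ↥(A.W c)) = 61 := by
    obtain ⟨n, hn⟩ := IsPGroup.iff_card.1 R.isPGroup'
    have h61 : 61 ∣ Nat.card ↥(R : Subgroup ↥(A.W c)) :=
      R.dvd_card_of_dvd_card (hWcard.symm ▸ dvd_mul_of_dvd_left (by norm_num) A.v)
    have hd : 61 ^ n ∣ 671 * A.v := hWcard ▸ hn ▸ Subgroup.card_subgroup_dvd_card _
    rcases Nat.lt_trichotomy n 1 with h | h | h
    · obtain rfl : n = 0 := by omega
      rw [hn] at h61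
      norm_num at h61
    · rw [hn, h, pow_one]
    · exfalso
      have h2 : 61 * 61 ∣ 61 * (11 * A.v) := by
        rw [show 61 * (11 * A.v) = 671 * A.v by ring, ← sq]
        exact (pow_dvd_pow 61 h).trans hd
      have h3 : 61 ∣ 11 * A.v := Nat.dvd_of_mul_dvd_mul_left (by norm_num) h2
      have := Nat.le_of_dvd hvpos
        ((Nat.Prime.dvd_mul (by norm_num)).1 h3 |>.resolve_left (by norm_num))
      omega
  have hone : Subsingleton (Sylow 61 ↥(A.W c)) := by
    have h1 := R.card_dvd_index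
    have h2 := card_sylow_modEq_one 61 ↥(A.W c)
    have h3 := Subgroup.card_mul_index (R : Subgroup ↥(A.W c))
    rw [hR, hWcard] at h3
    have h4 : (R : Subgroup ↥(A.W c)).index = 11 * A.v := by omega
    rw [h4] at h1
    have h5 := Nat.le_of_dvd (by omega) h1
    have h6 : Nat.card (Sylow 61 ↥(A.W c)) = 1 ∨ Nat.card (Sylow 61 ↥(A.W c)) = 62 ∨
        Nat.card (Sylow 61 ↥(A.W c)) = 123 := by
      unfold Nat.ModEq at h2
      omega
    rcases h6 with h6 | h6 | h6
    · exact (Nat.card_eq_one_iff_unique.1 h6).1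
    · exfalso
      rw [h6] at h1
      have : 31 ∣ 11 * A.v := (show (31 : ℕ) ∣ 62 by norm_num).trans h1
      have := Nat.le_of_dvd hvpos ((Nat.Prime.dvd_mul (by norm_num)).1 this |>.resolve_left (by norm_num))
      omega
    · exfalso
      rw [h6] at h1
      have : 41 ∣ 11 * A.v := (show (41 : ℕ) ∣ 123 by norm_num).trans h1
      have := Nat.le_of_dvd hvpos ((Nat.Prime.dvd_mul (by norm_num)).1 this |>.resolve_left (by norm_num))
      omega
  set R' : Subgroup G := (R : Subgroup ↥(A.W c)).map (A.W c).subtype with hR'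
  have hR'card : Nat.card ↥R' = 61 := by
    rw [hR', ← Nat.card_congr ((R : Subgroup ↥(A.W c)).equivMapOfInjective _
      (A.W c).subtype_injective).toEquiv, hR]
  have hR'W : R' ≤ A.W c := Subgroup.map_subtype_le _
  have hR'mem : ∀ r : G, r ∈ A.W c → r ^ 61 = 1 → r ∈ R' := by
    intro r hr hr61
    have hp : IsPGroup 61 ↥(Subgroup.zpowers (⟨r, hr⟩ : ↥(A.W c))) := by
      have hd := orderOf_dvd_of_pow_eq_one
        (show (⟨r, hr⟩ : ↥(A.W c)) ^ 61 = 1 from Subtype.ext hr61)
      rw [Nat.dvd_prime (by norm_num)] at hd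
      rcases hd with hd | hd
      · exact IsPGroup.of_card (n := 0) (by rw [Nat.card_zpowers, hd, pow_zero])
      · exact IsPGroup.of_card (n := 1) (by rw [Nat.card_zpowers, hd, pow_one])
    obtain ⟨S, hS⟩ := hp.exists_le_sylow
    rw [Subsingleton.elim S R] at hS
    exact ⟨⟨r, hr⟩, hS (Subgroup.mem_zpowers _), rfl⟩
  have hpow : ∀ {p : G}, p ∈ R' → p ^ 61 = 1 := by
    intro p hp
    have := pow_card_eq_one' (x := (⟨p, hp⟩ : ↥R'))
    rw [hR'card] at this
    exact congrArg Subtype.val this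
  have htconj : ∀ g : G, g ∈ A.W c → t * g * t⁻¹ ∈ A.W c := fun g hg => by
    have := A.W_conj t g c hg
    rwa [htc] at this
  have htR : ∀ r ∈ R', t * r * t⁻¹ ∈ R' := fun r hr =>
    hR'mem _ (htconj r (hR'W hr)) (by rw [conj_pow, hpow hr, mul_one, mul_inv_cancel])
  have htP : ∀ p ∈ A.P c, t * p * t⁻¹ ∈ A.P c := by
    intro p hp
    have h := A.P_conj t c
    rw [htc] at h
    rw [h]
    exact ⟨p, hp, rfl⟩
  have hθmem : ∀ (p : ↥(A.P c)) (r : ↥R'), ((p : G) * r) • d ≠ c := fun p r h =>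
    hdc (MulAction.injective ((p : G) * r)
      (h.trans (fix_left A ((A.W c).mul_mem (A.P_le c p.2) (hR'W r.2))).symm))
  let θ : ↥(A.P c) × ↥R' → {e : Ω // e ≠ c} := fun q => ⟨((q.1 : G) * q.2) • d, hθmem q.1 q.2⟩
  have hinj : Function.Injective θ := by
    rintro ⟨p, r⟩ ⟨p', r'⟩ h
    have h' : ((p : G) * r) • d = ((p' : G) * r') • d := congrArg Subtype.val h
    set q : G := (p' : G)⁻¹ * p with hq
    set s : G := (r' : G)⁻¹ * r with hs
    have hqP : q ∈ A.P c := (A.P c).mul_mem ((A.P c).inv_mem p'.2) p.2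
    have hsR : s ∈ R' := R'.mul_mem (R'.inv_mem r'.2) r.2
    have hcq : ∀ x ∈ R', x * q = q * x := fun x hx => comm_P A (hR'W hx) hqP
    have hfix : (q * s) • d = d := by
      have e : q * s = ((p' : G) * r')⁻¹ * (p * r) := by
        rw [hs, ← mul_assoc q, ← hcq _ (R'.inv_mem r'.2), hq]
        simp only [mul_inv_rev, mul_assoc]
      rw [e, mul_smul, h', inv_smul_smul]
    have h671 : (q * s) ^ 671 = 1 := by
      have hcm : Commute q s := (hcq s hsR).symm
      rw [hcm.mul_pow, show 671 = 11 * 61 from rfl, pow_mul, P_pow_eleven A hqP, one_pow, one_mul,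
        show 11 * 61 = 61 * 11 from rfl, pow_mul, hpow hsR, one_pow]
    have hqs : q * s = 1 := by
      rw [← orderOf_eq_one_iff]
      have hW : q * s ∈ A.W c := (A.W c).mul_mem (A.P_le c hqP) (hR'W hsR)
      have hd := Subgroup.orderOf_dvd_natCard (A.W c ⊓ stabilizer G d)
        (show q * s ∈ A.W c ⊓ stabilizer G d from ⟨hW, mem_stabilizer_iff.2 hfix⟩)
      rw [A.card_V c d hdc.symm] at hd
      have h12 : orderOf (q * s) ∣ Nat.gcd 671 12 :=
        Nat.dvd_gcd (orderOf_dvd_of_pow_eq_one h671) (hd.trans hv)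
      norm_num at h12
      rw [h12, orderOf_one]
    have hq1 : q = 1 := by
      rw [← orderOf_eq_one_iff]
      have h12 : orderOf q ∣ Nat.gcd 11 61 := by
        refine Nat.dvd_gcd (orderOf_dvd_of_pow_eq_one (P_pow_eleven A hqP)) (orderOf_dvd_of_pow_eq_one ?_)
        rw [mul_eq_one_iff_eq_inv] at hqs
        rw [hqs, inv_pow, hpow hsR, inv_one]
      norm_num at h12
      rw [h12, orderOf_one]
    rw [hq1, one_mul] at hqs
    exact Prod.ext (Subtype.ext (inv_mul_eq_one.1 hq1).symm) (Subtype.ext (inv_mul_eq_one.1 hqs).symm)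
  have hθ : Function.Bijective θ := by
    refine (Nat.bijective_iff_injective_and_card θ).2 ⟨hinj, ?_⟩
    rw [Nat.card_prod, A.card_P, hR'card, Nat.card_eq_fintype_card, Fintype.card_subtype_compl,
      Fintype.card_subtype_eq, ← Nat.card_eq_fintype_card, A.card_points, hu]
  set H : Subgroup G := R' ⊓ Subgroup.centralizer ({t} : Set G) with hH
  have hPfix : ∀ p : ↥(A.P c), t * p * t⁻¹ = (p : G) → p = 1 := by
    intro p hp
    by_contra hne
    apply htW
    rw [A.W_iff]
    intro q hq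
    have hgen : Subgroup.zpowers (p : G) = A.P c := by
      apply Subgroup.eq_of_le_of_card_ge (Subgroup.zpowers_le.2 p.2)
      rw [Nat.card_zpowers, A.card_P]
      have hd := orderOf_dvd_of_pow_eq_one (P_pow_eleven A p.2)
      rw [Nat.dvd_prime (by norm_num)] at hd
      exact le_of_eq (hd.resolve_left fun h => hne (Subtype.ext (orderOf_eq_one_iff.1 h))).symm
    have hle : Subgroup.zpowers (p : G) ≤ Subgroup.centralizer ({t} : Set G) :=
      Subgroup.zpowers_le.2 (Subgroup.mem_centralizer_singleton_iff.2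
        (mul_inv_eq_iff_eq_mul.1 hp).symm)
    exact (Subgroup.mem_centralizer_singleton_iff.1 (hle (hgen.symm ▸ hq))).symm
  have hfix : ∀ q : ↥(A.P c) × ↥R', t • (θ q).1 = (θ q).1 ↔
      q.1 = 1 ∧ t * (q.2 : G) = q.2 * t := by
    rintro ⟨p, r⟩
    constructor
    · intro h
      have h1 : θ (⟨_, htP p p.2⟩, ⟨_, htR r r.2⟩) = θ (p, r) := by
        apply Subtype.ext
        show ((t * p * t⁻¹) * (t * r * t⁻¹)) • d = ((p : G) * r) • d
        rw [show (t * p * t⁻¹) * (t * r * t⁻¹) = t * ((p : G) * r) * t⁻¹ by simp [mul_assoc],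
          mul_smul, mul_smul, show t⁻¹ • d = d by rw [inv_smul_eq_iff, htd]]
        exact h
      have h2 := hinj h1
      refine ⟨hPfix p (congrArg (fun x : ↥(A.P c) × ↥R' => (x.1 : G)) h2), ?_⟩
      exact mul_inv_eq_iff_eq_mul.1 (congrArg (fun x : ↥(A.P c) × ↥R' => (x.2 : G)) h2)
    · rintro ⟨rfl, h⟩
      show t • (((1 : ↥(A.P c)) : G) * r) • d = (((1 : ↥(A.P c)) : G) * r) • d
      rw [Subgroup.coe_one, one_mul, ← mul_smul, h, mul_smul, htd]
  let e : ↥H → {e : Ω // t • e = e ∧ e ≠ c} := fun r =>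
    ⟨(θ (1, ⟨r, r.2.1⟩)).1,
      (hfix _).2 ⟨rfl, (Subgroup.mem_centralizer_singleton_iff.1 r.2.2).symm⟩, (θ _).2⟩
  have he : Function.Bijective e := by
    constructor
    · intro p q h
      have := hinj (a₁ := (1, (⟨p, p.2.1⟩ : ↥R'))) (a₂ := (1, ⟨q, q.2.1⟩))
        (Subtype.ext (congrArg (fun r : {e : Ω // t • e = e ∧ e ≠ c} => (r : Ω)) h))
      exact Subtype.ext (congrArg (fun r : ↥(A.P c) × ↥R' => (r.2 : G)) this)
    · rintro ⟨f, hf, hfc⟩
      obtain ⟨⟨p, r⟩, hk⟩ := hθ.2 ⟨f, hfc⟩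
      obtain ⟨hp1, hr⟩ := (hfix (p, r)).1 (by rw [hk]; exact hf)
      refine ⟨⟨r, r.2, Subgroup.mem_centralizer_singleton_iff.2 hr.symm⟩, Subtype.ext ?_⟩
      show (θ (1, r)).1 = f
      rw [← show p = 1 from hp1, hk]
  have hf : Nat.card {e : Ω // t • e = e} = Nat.card ↥H + 1 := by
    rw [Nat.card_eq_of_bijective e he, Nat.card_eq_fintype_card, Nat.card_eq_fintype_card,
      Fintype.card_subtype, Fintype.card_subtype,
      ← Finset.card_insert_of_notMem (a := c) (s := Finset.univ.filter fun e => t • e = e ∧ e ≠ c)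
        (by simp)]
    apply congrArg Finset.card
    ext x
    by_cases hx : x = c <;> simp [hx, htc]
  have hdvd : Nat.card ↥H ∣ 61 := hR'card ▸ Subgroup.card_dvd_of_le (show H ≤ R' from inf_le_left)
  rcases (Nat.dvd_prime (show Nat.Prime 61 by norm_num)).1 hdvd with h | h <;> rw [hf, h] <;> simp

end H25.Eleven
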